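import Cfsg.Agent.Lib.GW.Dne.Mixed.AlphaNormal

/-!
# A mixed prime with a central fixed point: the axis
-/

set_option autoImplicit false

namespace CfsgLib.GW.Dne.Mixed

open Subgroup CfsgLib.GW
open CfsgLib.Signalizer (involution_sq involution_inv involution_ne_one orderOf_eq_two_of orderOf_conj)

universe u

variable {G : Type u} [Group G] [Finite G]
variable {σ : Hyp G} {t u₁ u₂ g₁ g₂ : G} {r : ℕ} (M : Mixed σ t u₁ u₂ g₁ g₂ r)
  (hgc : ∀ q ∈ fixedQ r t u₁, Commute g₁ q) {z : G} (hz : Central r t u₁ z)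
include M hgc hz

/-- The axis; `O_r(O(C(t)))` is commutative. -/
theorem alpha_axis (C : Components G) (hH : HLemma G) (hL : NoFixedLinear G) :
    ∃ y w, Axis σ t u₁ u₂ g₁ g₂ r y w ∧
      ∀ a ∈ rCore r t, ∀ b ∈ rCore r t, Commute a b := by
  classical
  haveI := Fact.mk M.prime
  rcases M.alpha_normal_or_cyclic hgc hz C with hall | hcyc
  · exact (M.false_of_normal hgc hz hall C hH hL).elim
  obtain ⟨-, w, hw, hw1, hwu, hgen, hwc⟩ := M.alpha_generator hgc hz C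
  letI := IsCyclic.commGroup (α := fixedQ r t u₁)
  have hfc : ∀ a ∈ fixedQ r t u₁, ∀ b ∈ fixedQ r t u₁, Commute a b := fun a ha b hb =>
    congrArg Subtype.val (mul_comm (⟨a, ha⟩ : fixedQ r t u₁) ⟨b, hb⟩)
  have hcomm : ∀ a ∈ rCore r t, ∀ b ∈ rCore r t, Commute a b := by
    intro a ha b hb
    obtain ⟨c, hc, i, hi, hiu, rfl⟩ := M.decompQ ha
    obtain ⟨d, hd, j, hj, hju, rfl⟩ := M.decompQ hb
    obtain ⟨k, rfl⟩ := hgen i hi hiu
    obtain ⟨l, rfl⟩ := hgen j hj hju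
    exact ((hfc c hc d hd).mul_right ((hwc c hc).zpow_right l)).mul_left
      (((hwc d hd).zpow_right k).symm.mul_right (Commute.zpow_zpow (Commute.refl w) k l))
  obtain ⟨f, hf⟩ := IsPGroup.iff_card.1 (isPGroup_fixedQ (r := r) (t := t) (u₁ := u₁))
  have hf0 : f ≠ 0 := fun e => M.fixed_ne (card_eq_one.1 (by rw [hf, e, pow_zero]))
  obtain ⟨⟨y, hy⟩, hyo⟩ := exists_prime_orderOf_dvd_card' (G := fixedQ r t u₁) r
    (hf ▸ dvd_pow_self r hf0)
  rw [Subgroup.orderOf_mk] at hyo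
  have hy1 : y ≠ 1 := fun e => by
    rw [e, orderOf_one] at hyo; exact M.prime.one_lt.ne hyo
  refine ⟨y, w, ⟨M, hgc, hcyc, hy, hyo, hw, hw1, hwu, hwc, fun x hx hxu _ => hgen x hx hxu,
    fun i hi hit hiQ hiw => ?_⟩, hcomm⟩
  -- `i` inverts `Q`
  have hall : ∀ q ∈ rCore r t, i * q * i⁻¹ = q⁻¹ := by
    intro q hq
    obtain ⟨c, hc, j, hj, hju, rfl⟩ := M.decompQ hq
    obtain ⟨k, rfl⟩ := hgen j hj hju
    show i * (c * w ^ k) * i⁻¹ = (c * w ^ k)⁻¹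
    rw [show i * (c * w ^ k) * i⁻¹ = i * c * i⁻¹ * (i * w ^ k * i⁻¹) by group, hiQ c hc,
      inverted_zpow hiw, ← mul_inv_rev, ((hwc c hc).zpow_right k).eq]
  obtain ⟨k, hk⟩ := isRElt_of_mem isPGroup_fixedQ hy
  have hnse : ¬ Group.IsSolvable (centralizer ({y} : Set G)) :=
    (M.fused_centralizer M.frame.rot₁ hgc hy hy1).not_solvable_of_inverted C.solvableLocal M.cfixed
      M.prime M.ne_two (rCore_le r t hw) (mem_centralizer_of_commute (hwc y hy).symm) hw1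
      (isRElt_of_mem (isPGroup_rCore r t) hw) hwu
  refine hH r k t u₁ g₁ i y y M.prime M.ne_two M.cfixed M.frame.rot₁ hi hit hy1 hk
    (M.commute_t hy.1) (mem_fixedQ.1 hy).2 (hgc y hy).symm (hiQ y hy) hnse (rCore_le r t hy.1) hy1
    ⟨k, hk⟩ (hiQ y hy) fun x hx hxi => ?_
  -- elements inverted by `i` centralise `y`
  have hxt := ((σ.mem_U M.ht).1 hx).1
  have h1 : i * (x * y * x⁻¹) * i⁻¹ = (x * y * x⁻¹)⁻¹ := hall _ (conj_mem_Q hxt hy.1)
  rw [show i * (x * y * x⁻¹) * i⁻¹ = (i * x * i⁻¹) * (i * y * i⁻¹) * (i * x * i⁻¹)⁻¹ by group, hxi,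
    hiQ y hy, inv_inv] at h1
  refine commute_of_sq ((σ.mem_U M.ht).1 hx).2 (commute_of_conj_eq ?_)
  have h2 : x⁻¹ * y * x = x * y * x⁻¹ := by
    have := congrArg (fun a => a⁻¹) h1
    simpa [mul_assoc] using this
  calc x ^ 2 * y * (x ^ 2)⁻¹ = x * (x * y * x⁻¹) * x⁻¹ := by rw [pow_two]; group
    _ = y := by rw [← h2]; group

end CfsgLib.GW.Dne.Mixed
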