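import Cfsg.Agent.Lib.GW.Dne.Mixed.Axis
import Cfsg.Agent.Lib.PGroups.Basic

/-!
# A mixed prime with a central fixed point

`Q = Q₁ × ⟨w⟩`; `Q₁` is not normal in `C(t)`, so it is cyclic.
-/

set_option autoImplicit false

namespace CfsgLib.GW.Dne.Mixed

open Subgroup CfsgLib.GW
open CfsgLib.Signalizer (involution_sq involution_inv involution_ne_one orderOf_eq_two_of orderOf_conj)

universe u

variable {G : Type u} [Group G] [Finite G]
variable {σ : Hyp G} {t u₁ u₂ g₁ g₂ : G} {r : ℕ} (M : Mixed σ t u₁ u₂ g₁ g₂ r)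

/-- Hypothesis of this file: a central fixed point. -/
def Central (r : ℕ) (t u z : G) : Prop :=
  z ∈ fixedQ r t u ∧ z ≠ 1 ∧ ∀ q ∈ rCore r t, Commute q z

variable (hgc : ∀ q ∈ fixedQ r t u₁, Commute g₁ q) {z : G} (hz : Central r t u₁ z)
include M hgc hz

omit hgc in
theorem le_centralizer_central : rCore r t ≤ centralizer ({z} : Set G) :=
  fun _ hq => mem_centralizer_of_commute (hz.2.2 _ hq)

theorem alpha_generator (C : Components G) :
    rCore r t ≤ normalizer (fixedQ r t u₁ : Set G) ∧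
      ∃ w ∈ rCore r t, w ≠ 1 ∧ u₁ * w * u₁⁻¹ = w⁻¹ ∧
        (∀ x ∈ rCore r t, u₁ * x * u₁⁻¹ = x⁻¹ → x ∈ zpowers w) ∧
        ∀ q ∈ fixedQ r t u₁, Commute q w := by
  haveI := Fact.mk M.prime
  have hF := M.fused_centralizer M.frame.rot₁ hgc hz.1 hz.2.1
  obtain ⟨w, hw, hwu, hgen⟩ := hF.exists_inverted_generator M.cfixed M.ne_two (isPGroup_rCore r t)
    (rCore_le r t) (M.le_centralizer_central hz) M.u₁_mem_normalizer C.torusCyclic
  obtain ⟨v, hv, hv1, hvu⟩ := M.exists_inverted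
  have hw1 : w ≠ 1 := fun e => hv1 (by
    have := hgen v hv hvu
    rwa [e, zpowers_one_eq_bot, mem_bot] at this)
  have hN := hF.le_normalizer_fixed M.cfixed M.ne_two (isPGroup_rCore r t) (rCore_le r t)
    (M.le_centralizer_central hz) M.u₁_mem_normalizer C.fieldTrivial (M.le_normalizer_Q _) hv hv1 hvu
  refine ⟨hN, w, hw, hw1, hwu, hgen, fun q hq => ?_⟩
  exact (commute_of_inverted_normalizer (odd_orderOf_of_mem M.odd_Q hw) hwu (mem_fixedQ.1 hq).2
    (mem_fixedQ.1 ((mem_normalizer_iff.1 (hN hw) q).1 hq)).2).symm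

/-- An element of `C(t)` keeping a central fixed point fixed normalises the fixed points. -/
theorem alpha_conj_mem (C : Components G) {k : G} (hk : Commute k t)
    (hzk : Commute z (k * u₁ * k⁻¹)) {q : G} (hq : q ∈ fixedQ r t u₁) :
    k * q * k⁻¹ ∈ fixedQ r t u₁ := by
  haveI := Fact.mk M.prime
  have hF := M.fused_centralizer M.frame.rot₁ hgc hz.1 hz.2.1
  set X := centralizer ({z} : Set G) with hX
  have hkz : k⁻¹ * z * k ∈ fixedQ r t u₁ := by
    refine mem_fixedQ.2 ⟨?_, ?_⟩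
    · have := conj_mem_Q hk.inv_left hz.1.1
      rwa [inv_inv] at this
    · have := hzk.map (MulAut.conj k⁻¹).toMonoidHom
      simpa [mul_assoc] using this
  have hgz : Commute z (k * g₁ * k⁻¹) := by
    have := ((hgc _ hkz).symm).map (MulAut.conj k).toMonoidHom
    simpa [mul_assoc] using this
  have hR := M.frame.rot₁.conj k
  rw [show k * t * k⁻¹ = t from conj_eq_of_commute hk] at hR
  have hF' : Fused X t (k * u₁ * k⁻¹) (k * g₁ * k⁻¹) :=
    ⟨hF.ne_top, hF.mem_t, mem_centralizer_of_commute hzk.symm, mem_centralizer_of_commute hgz.symm, hR⟩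
  obtain ⟨v, hv, hv1, hvu⟩ := M.exists_inverted
  have e1 := hF.inf_core_eq M.cfixed M.ne_two (isPGroup_rCore r t) (rCore_le r t)
    (M.le_centralizer_central hz) M.u₁_mem_normalizer C.fieldTrivial (M.le_normalizer_Q _) hv hv1 hvu
  have e2 := hF'.inf_core_eq M.cfixed M.ne_two (isPGroup_rCore r t) (rCore_le r t)
    (M.le_centralizer_central hz)
    (centralizer_le_normalizer_rCore r t (mem_centralizer_of_commute
      ((hk.mul_left M.frame.commute₁).mul_left hk.inv_left)))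
    C.fieldTrivial (M.le_normalizer_Q _) (conj_mem_Q hk hv)
    (fun e => hv1 (conj_eq_one_iff.1 e))
    (by rw [show k * u₁ * k⁻¹ * (k * v * k⁻¹) * (k * u₁ * k⁻¹)⁻¹ = k * (u₁ * v * u₁⁻¹) * k⁻¹ by group,
      hvu]; group)
  have h1 : k * q * k⁻¹ ∈ rCore r t ⊓ centralizer ({k * u₁ * k⁻¹} : Set G) :=
    ⟨conj_mem_Q hk hq.1, mem_centralizer_of_commute
      ((mem_fixedQ.1 hq).2.map (MulAut.conj k).toMonoidHom)⟩
  rw [← e2, e1] at h1
  exact h1

/-- Unless the fixed points are cyclic they are normalised by `C(t)`. -/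
theorem alpha_normal_or_cyclic (C : Components G) :
    (∀ k : G, Commute k t → ∀ q ∈ fixedQ r t u₁, k * q * k⁻¹ ∈ fixedQ r t u₁) ∨
      IsCyclic (fixedQ r t u₁) := by
  classical
  haveI := Fact.mk M.prime
  obtain ⟨hN, w, hw, -, hwu, hgen, hwc⟩ := M.alpha_generator hgc hz C
  by_contra hno
  push Not at hno
  obtain ⟨⟨k, hk, q₀, hq₀, hbad⟩, hnc⟩ := hno
  set R : Subgroup G := rCore r t ⊓ centralizer ({k * u₁ * k⁻¹} : Set G) with hR
  -- conjugation carries the structure to `R`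
  have hmem : ∀ {p : G}, p ∈ fixedQ r t u₁ → k * p * k⁻¹ ∈ R := fun {p} hp =>
    ⟨conj_mem_Q hk hp.1, mem_centralizer_of_commute
      ((mem_fixedQ.1 hp).2.map (MulAut.conj k).toMonoidHom)⟩
  have hback : ∀ {p : G}, p ∈ R → k⁻¹ * p * k ∈ fixedQ r t u₁ := fun {p} hp => by
    refine mem_fixedQ.2 ⟨?_, ?_⟩
    · have := conj_mem_Q hk.inv_left hp.1
      rwa [inv_inv] at this
    · have := (commute_of_mem_centralizer hp.2).map (MulAut.conj k⁻¹).toMonoidHom
      simpa [mul_assoc] using this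
  have hRN : rCore r t ≤ normalizer (R : Set G) := by
    intro p hp
    refine mem_normalizer_of_conj fun a ha => ?_
    have hp' : k⁻¹ * p * k ∈ rCore r t := by
      have := conj_mem_Q hk.inv_left hp
      rwa [inv_inv] at this
    have := hmem ((mem_normalizer_iff.1 (hN hp') _).1 (hback ha))
    rwa [show k * (k⁻¹ * p * k * (k⁻¹ * a * k) * (k⁻¹ * p * k)⁻¹) * k⁻¹ = p * a * p⁻¹ by group] at this
  by_cases hbot : fixedQ r t u₁ ⊓ R = ⊥
  · -- the fixed points embed in the cyclic group `Q / R`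
    set Q := rCore r t
    haveI : (R.subgroupOf Q).Normal := normal_subgroupOf_of_le_normalizer hRN
    set π : Q →* Q ⧸ R.subgroupOf Q := QuotientGroup.mk' _
    haveI : IsCyclic (Q ⧸ R.subgroupOf Q) := by
      refine ⟨⟨π ⟨k * w * k⁻¹, conj_mem_Q hk hw⟩, fun a => ?_⟩⟩
      obtain ⟨⟨p, hp⟩, rfl⟩ := QuotientGroup.mk'_surjective _ a
      have hp' : k⁻¹ * p * k ∈ rCore r t := by
        have := conj_mem_Q hk.inv_left hp
        rwa [inv_inv] at this
      obtain ⟨c, hc, i, hi, hiu, e⟩ := M.decompQ hp'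
      obtain ⟨j, rfl⟩ := hgen i hi hiu
      refine ⟨j, ?_⟩
      show π ⟨k * w * k⁻¹, conj_mem_Q hk hw⟩ ^ j = π ⟨p, hp⟩
      rw [← map_zpow]
      refine QuotientGroup.eq.2 ?_
      show ((k * w * k⁻¹) ^ j)⁻¹ * p ∈ R
      have e' : p = k * (w ^ j) * k⁻¹ * (k * c * k⁻¹) := by
        calc p = k * (k⁻¹ * p * k) * k⁻¹ := by group
          _ = k * (w ^ j * c) * k⁻¹ := by
            rw [e, show c * (fun x => w ^ x) j = w ^ j * c from ((hwc c hc).zpow_right j).eq]
          _ = _ := by group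
      rw [conj_zpow, e', inv_mul_cancel_left]
      exact hmem hc
    refine hnc (isCyclic_of_injective (π.comp (inclusion (fixedQ_le))) ?_)
    rw [← MonoidHom.ker_eq_bot_iff, eq_bot_iff]
    intro a ha
    have h1 : (a : G) ∈ R :=
      (QuotientGroup.eq_one_iff (N := R.subgroupOf Q) (inclusion fixedQ_le a)).1 (MonoidHom.mem_ker.1 ha)
    exact Subtype.ext ((mem_bot).1 (hbot ▸ ⟨a.2, h1⟩ : (a : G) ∈ (⊥ : Subgroup G)))
  · set I := fixedQ r t u₁ ⊓ R with hI
    haveI : (I.subgroupOf (rCore r t)).Normal := normal_subgroupOf_of_le_normalizer fun p hp =>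
      mem_normalizer_of_conj fun a ha =>
        ⟨(mem_normalizer_iff.1 (hN hp) a).1 ha.1, (mem_normalizer_iff.1 (hRN hp) a).1 ha.2⟩
    have hIne : I.subgroupOf (rCore r t) ≠ ⊥ := fun e => hbot (by
      rw [eq_bot_iff]
      intro a ha
      have h1 : (⟨a, ha.1.1⟩ : rCore r t) ∈ I.subgroupOf (rCore r t) := ha
      rw [e, mem_bot] at h1
      exact mem_bot.2 (congrArg Subtype.val h1))
    obtain ⟨⟨z', hz'Q⟩, hz', hz'1⟩ := (bot_or_exists_ne_one _).resolve_left
      (CfsgLib.PGroups.inf_center_ne_bot (isPGroup_rCore r t) hIne)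
    have hzc : Central r t u₁ z' := ⟨hz'.1.1, fun e => hz'1 (Subtype.ext e), fun p hp =>
      congrArg Subtype.val (mem_center_iff.1 hz'.2 ⟨p, hp⟩)⟩
    exact hbad (M.alpha_conj_mem hgc hzc C hk (commute_of_mem_centralizer hz'.1.2.2) hq₀)

end CfsgLib.GW.Dne.Mixed
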