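import Cfsg.Agent.Lib.GW.Dne.Mixed.Axis
import Cfsg.Agent.Lib.GW.Dne.Mixed.Alpha
import Cfsg.Agent.Lib.Core.Nilpotent

/-!
# A mixed prime without central fixed points

The centre is cyclic and inverted, `Q₁` is cyclic and `O(C(t))` centralises the elements of
order `r` of the centre.
-/

set_option autoImplicit false

namespace CfsgLib.GW.Dne.Mixed

open Subgroup CfsgLib.GW
open scoped commutatorElement
open CfsgLib.Signalizer (involution_sq involution_inv involution_ne_one orderOf_eq_two_of orderOf_conj)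

universe u

variable {G : Type u} [Group G] [Finite G]
variable {σ : Hyp G} {t u₁ u₂ g₁ g₂ : G} {r : ℕ} (M : Mixed σ t u₁ u₂ g₁ g₂ r)
  (hgc : ∀ q ∈ fixedQ r t u₁, Commute g₁ q) (hβ : ∀ z, ¬ Central r t u₁ z)
include M hgc hβ

omit hgc in
theorem central_inverted {z : G} (hz : z ∈ rCore r t) (hzc : ∀ q ∈ rCore r t, Commute q z) :
    u₁ * z * u₁⁻¹ = z⁻¹ := by
  haveI := Fact.mk M.prime
  obtain ⟨c, hc, i, hi, hiu, e⟩ := M.decompQ hz
  have hc' : ∀ q ∈ rCore r t, Commute q (u₁ * z * u₁⁻¹) := fun q hq => by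
    have := (hzc _ (conj_mem_Q M.frame.commute₁ hq)).map (MulAut.conj u₁).toMonoidHom
    simpa [conj_conj_involution M.hu₁] using this
  -- `z u₁(z)` is fixed and central
  set d := z * (u₁ * z * u₁⁻¹) with hd
  have hdF : d ∈ fixedQ r t u₁ := mem_fixedQ.2
    ⟨(rCore r t).mul_mem hz (conj_mem_Q M.frame.commute₁ hz), (commute_of_conj_eq (by
      rw [hd, show u₁ * (z * (u₁ * z * u₁⁻¹)) * u₁⁻¹ = (u₁ * z * u₁⁻¹) * (u₁ * (u₁ * z * u₁⁻¹) * u₁⁻¹)
        by group, conj_conj_involution M.hu₁]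
      exact ((hzc _ (conj_mem_Q M.frame.commute₁ hz))).eq)).symm⟩
  have hd1 : d = 1 := by
    by_contra hd1
    exact hβ d ⟨hdF, hd1, fun q hq => (hzc q hq).mul_right (hc' q hq)⟩
  exact (inv_eq_of_mul_eq_one_right hd1).symm

theorem beta_generator (C : Components G) :
    ∃ w ∈ rCore r t, w ≠ 1 ∧ u₁ * w * u₁⁻¹ = w⁻¹ ∧
      (∀ x ∈ rCore r t, x ∈ normalizer (fixedQ r t u₁ : Set G) → u₁ * x * u₁⁻¹ = x⁻¹ →
        x ∈ zpowers w) ∧
      (∀ q ∈ fixedQ r t u₁, Commute q w) ∧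
      ∀ z ∈ rCore r t, (∀ q ∈ rCore r t, Commute q z) → z ∈ zpowers w := by
  haveI := Fact.mk M.prime
  have hF := M.fused_normalizer M.frame.rot₁ hgc le_rfl M.fixed_ne
  set X := normalizer (fixedQ r t u₁ : Set G) with hX
  have huP : u₁ ∈ normalizer ((rCore r t ⊓ X : Subgroup G) : Set G) :=
    mem_normalizer_of_conj fun p hp =>
      ⟨conj_mem_Q M.frame.commute₁ hp.1, X.mul_mem (X.mul_mem hF.mem_u hp.2) (X.inv_mem hF.mem_u)⟩
  obtain ⟨w, hw, hwu, hgen⟩ := hF.exists_inverted_generator M.cfixed M.ne_two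
    ((isPGroup_rCore r t).to_le inf_le_left) (inf_le_left.trans (rCore_le r t)) inf_le_right huP
    C.torusCyclic
  have hgenZ : ∀ z ∈ rCore r t, (∀ q ∈ rCore r t, Commute q z) → z ∈ zpowers w := fun z hz hzc =>
    hgen z ⟨hz, mem_normalizer_of_conj fun q hq => by
      rw [conj_eq_of_commute (hzc q hq.1).symm]; exact hq⟩ (M.central_inverted hβ hz hzc)
  refine ⟨w, hw.1, fun e => ?_, hwu, fun x hx hxN hxu => hgen x ⟨hx, hxN⟩ hxu, fun q hq => ?_, hgenZ⟩
  · haveI : Nontrivial (rCore r t) := by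
      obtain ⟨v, hv, hv1, -⟩ := M.exists_inverted
      exact ⟨⟨⟨v, hv⟩, 1, fun e' => hv1 (congrArg Subtype.val e')⟩⟩
    haveI := (isPGroup_rCore r t).center_nontrivial
    obtain ⟨⟨⟨z, hz⟩, hzc⟩, hz1⟩ := exists_ne (1 : center (rCore r t))
    have h1 : z ∈ zpowers w :=
      hgenZ z hz fun q hq => congrArg Subtype.val (mem_center_iff.1 hzc ⟨q, hq⟩)
    rw [e, zpowers_one_eq_bot, mem_bot] at h1
    exact hz1 (Subtype.ext (Subtype.ext h1))
  · exact (commute_of_inverted_normalizer (odd_orderOf_of_mem M.odd_Q hw.1) hwu (mem_fixedQ.1 hq).2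
      (mem_fixedQ.1 ((mem_normalizer_iff.1 hw.2 q).1 hq)).2).symm

/-- An element normalising a subgroup normalised by `Q₁` normalises `Q₁`. -/
theorem beta_normalizer_le (C : Components G) {Y : Subgroup G} (hY : Y ≤ fixedQ r t u₁)
    (hY1 : Y ≠ ⊥) (hYn : fixedQ r t u₁ ≤ normalizer (Y : Set G)) :
    rCore r t ⊓ normalizer (Y : Set G) ≤ normalizer (fixedQ r t u₁ : Set G) := by
  haveI := Fact.mk M.prime
  obtain ⟨w, hw, hw1, hwu, -, hwc, -⟩ := M.beta_generator hgc hβ C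
  have hF := M.fused_normalizer M.frame.rot₁ hgc hY hY1
  set X := normalizer (Y : Set G) with hX
  have hwX : w ∈ X := mem_normalizer_of_conj fun q hq => by
    rw [conj_eq_of_commute (hwc q (hY hq)).symm]; exact hq
  have h := hF.le_normalizer_fixed M.cfixed M.ne_two
    ((isPGroup_rCore r t).to_le (inf_le_left (b := X))) (inf_le_left.trans (rCore_le r t))
    inf_le_right
    (mem_normalizer_of_conj fun p hp =>
      ⟨conj_mem_Q M.frame.commute₁ hp.1, X.mul_mem (X.mul_mem hF.mem_u hp.2) (X.inv_mem hF.mem_u)⟩)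
    C.fieldTrivial
    (fun a ha => mem_normalizer_of_conj fun p hp =>
      ⟨conj_mem_Q ((σ.mem_U M.ht).1 ha.1).1 hp.1, X.mul_mem (X.mul_mem ha.2 hp.2) (X.inv_mem ha.2)⟩)
    ⟨hw, hwX⟩ hw1 hwu
  have e : (rCore r t ⊓ X) ⊓ centralizer ({u₁} : Set G) = fixedQ r t u₁ :=
    le_antisymm (inf_le_inf_right _ inf_le_left) fun q hq => ⟨⟨hq.1, hYn hq⟩, hq.2⟩
  rwa [e] at h

theorem beta_exists_normalizing (C : Components G) {w : G} (hw : w ∈ rCore r t)
    (hwc : ∀ q ∈ fixedQ r t u₁, Commute q w) :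
    ∃ v ∈ rCore r t, v ∉ normalizer (fixedQ r t u₁ : Set G) ∧ u₁ * v * u₁⁻¹ = v⁻¹ ∧
      v ∈ normalizer ((rCore r t ⊓ normalizer (fixedQ r t u₁ : Set G) : Subgroup G) : Set G) := by
  have _ := hw; have _ := hwc; have _ := C
  haveI := Fact.mk M.prime
  set X := normalizer (fixedQ r t u₁ : Set G) with hX
  set P := rCore r t ⊓ X with hP
  have hF := M.fused_normalizer M.frame.rot₁ hgc le_rfl M.fixed_ne
  have hlt : P < rCore r t := lt_of_le_of_ne inf_le_left fun e => by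
    haveI : ((fixedQ r t u₁).subgroupOf (rCore r t)).Normal :=
      normal_subgroupOf_of_le_normalizer fun q hq => (e.symm ▸ hq : q ∈ P).2
    have hne : (fixedQ r t u₁).subgroupOf (rCore r t) ≠ ⊥ := fun e' => M.fixed_ne (by
      rw [eq_bot_iff]
      intro a ha
      have h1 : (⟨a, ha.1⟩ : rCore r t) ∈ (fixedQ r t u₁).subgroupOf (rCore r t) := ha
      rw [e', mem_bot] at h1
      exact mem_bot.2 (congrArg Subtype.val h1))
    obtain ⟨⟨z, hzQ⟩, hz, hz1⟩ := (bot_or_exists_ne_one _).resolve_left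
      (CfsgLib.PGroups.inf_center_ne_bot (isPGroup_rCore r t) hne)
    exact hβ z ⟨hz.1, fun e' => hz1 (Subtype.ext e'),
      fun q hq => congrArg Subtype.val (mem_center_iff.1 hz.2 ⟨q, hq⟩)⟩
  obtain ⟨v, hv, hvP, hvN, hvu⟩ := exists_inverted_normalizer (isPGroup_rCore r t) M.ne_two M.hu₁
    M.u₁_mem_normalizer
    (mem_normalizer_of_conj (H := P) fun p hp =>
      ⟨conj_mem_Q M.frame.commute₁ hp.1, X.mul_mem (X.mul_mem hF.mem_u hp.2) (X.inv_mem hF.mem_u)⟩)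
    hlt fun q hq hqu => ⟨hq, le_normalizer (mem_fixedQ.2 ⟨hq, hqu⟩)⟩
  exact ⟨v, hv, fun h => hvP ⟨hv, h⟩, hvu, hvN⟩

theorem beta_mul (C : Components G) {w : G} (hgen : ∀ x ∈ rCore r t,
      x ∈ normalizer (fixedQ r t u₁ : Set G) → u₁ * x * u₁⁻¹ = x⁻¹ → x ∈ zpowers w)
    {p : G} (hp : p ∈ rCore r t) (hpN : p ∈ normalizer (fixedQ r t u₁ : Set G)) :
    ∃ c ∈ fixedQ r t u₁, ∃ k : ℤ, p = c * w ^ k := by
  have _ := hgc; have _ := hβ; have _ := C
  obtain ⟨c, hc, i, hi, hiu, rfl⟩ := M.decompQ hp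
  have hiN : i ∈ normalizer (fixedQ r t u₁ : Set G) := by
    have := mul_mem (inv_mem (le_normalizer (H := fixedQ r t u₁) hc)) hpN
    rwa [inv_mul_cancel_left] at this
  obtain ⟨k, rfl⟩ := hgen i hi hiN hiu
  exact ⟨c, hc, k, rfl⟩

theorem beta_fixed_comm (C : Components G) {a b : G} (ha : a ∈ fixedQ r t u₁)
    (hb : b ∈ fixedQ r t u₁) : Commute a b := by
  classical
  haveI := Fact.mk M.prime
  obtain ⟨w, hw, -, -, hgen, hwc, -⟩ := M.beta_generator hgc hβ C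
  obtain ⟨v, hv, hvX, -, hvN⟩ := M.beta_exists_normalizing hgc hβ C hw hwc
  by_contra hab
  set F := fixedQ r t u₁ with hF
  set Y : Subgroup G := ⁅F, F⁆ with hYdef
  have hYF : Y ≤ F := Subgroup.commutator_le.2 fun p hp q hq =>
    F.mul_mem (F.mul_mem (F.mul_mem hp hq) (F.inv_mem hp)) (F.inv_mem hq)
  have hY1 : Y ≠ ⊥ := fun e => hab (by
    have h1 : ⁅a, b⁆ ∈ Y := commutator_mem_commutator ha hb
    rw [e, mem_bot, commutatorElement_eq_one_iff_commute] at h1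
    exact h1)
  have key : ∀ p ∈ F, ∀ q ∈ F, ∀ k l : ℤ, ⁅p * w ^ k, q * w ^ l⁆ = ⁅p, q⁆ := by
    intro p hp q hq k l
    simp only [commutatorElement_def, mul_inv_rev]
    have h1 : Commute (w ^ k) q := ((hwc q hq).zpow_right k).symm
    have h2 : Commute (w ^ l) p⁻¹ := ((hwc _ (F.inv_mem hp)).zpow_right l).symm
    have h3 : Commute (w ^ k) (w ^ l) := Commute.zpow_zpow (Commute.refl w) k l
    calc p * w ^ k * (q * w ^ l) * ((w ^ k)⁻¹ * p⁻¹) * ((w ^ l)⁻¹ * q⁻¹)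
        = p * (w ^ k * q) * (w ^ l * (w ^ k)⁻¹) * p⁻¹ * ((w ^ l)⁻¹ * q⁻¹) := by group
      _ = p * (q * w ^ k) * ((w ^ k)⁻¹ * w ^ l) * p⁻¹ * ((w ^ l)⁻¹ * q⁻¹) := by
        rw [h1.eq, (h3.inv_left).eq]
      _ = p * q * (w ^ l * p⁻¹) * ((w ^ l)⁻¹ * q⁻¹) := by group
      _ = p * q * p⁻¹ * q⁻¹ := by rw [h2.eq]; group
  have hvY : v ∈ normalizer (Y : Set G) := by
    have hsub : Y.map (MulAut.conj v).toMonoidHom ≤ Y := by
      rw [hYdef, map_commutator, Subgroup.commutator_le]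
      rintro _ ⟨p, hp, rfl⟩ _ ⟨q, hq, rfl⟩
      have hmem : ∀ s ∈ F, v * s * v⁻¹ ∈ rCore r t ⊓ normalizer (F : Set G) := fun s hs =>
        (mem_normalizer_iff.1 hvN s).1 ⟨hs.1, le_normalizer hs⟩
      obtain ⟨p', hp', k, ep⟩ := M.beta_mul hgc hβ C hgen (hmem p hp).1 (hmem p hp).2
      obtain ⟨q', hq', l, eq⟩ := M.beta_mul hgc hβ C hgen (hmem q hq).1 (hmem q hq).2
      show ⁅v * p * v⁻¹, v * q * v⁻¹⁆ ∈ _
      rw [ep, eq, key p' hp' q' hq' k l]
      exact commutator_mem_commutator hp' hq'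
    exact mem_normalizer_of_conj fun s hs => hsub ⟨s, hs, rfl⟩
  refine hvX (M.beta_normalizer_le hgc hβ C hYF hY1 ?_ ⟨hv, hvY⟩)
  intro p hp
  refine mem_normalizer_of_conj ?_
  have h1 : Y.map (MulAut.conj p).toMonoidHom ≤ Y := by
    rw [hYdef, map_commutator]
    refine commutator_mono ?_ ?_ <;>
      exact map_le_iff_le_comap.2 fun q hq => F.mul_mem (F.mul_mem hp hq) (F.inv_mem hp)
  exact fun s hs => h1 ⟨s, hs, rfl⟩

/-- Elements of `Q` centralising a non-trivial fixed point normalise the fixed points. -/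
theorem beta_centralizer_le (C : Components G) {a x : G} (ha : a ∈ fixedQ r t u₁) (ha1 : a ≠ 1)
    (hx : x ∈ rCore r t) (hxa : Commute x a) : x ∈ normalizer (fixedQ r t u₁ : Set G) := by
  have hn : ∀ y : G, Commute y a → y ∈ normalizer (zpowers a : Set G) := fun y hy =>
    mem_normalizer_of_conj (by
      rintro _ ⟨k, rfl⟩
      refine ⟨k, ?_⟩
      show a ^ k = y * a ^ k * y⁻¹
      rw [conj_eq_of_commute (hy.zpow_right k)])
  exact M.beta_normalizer_le hgc hβ C (zpowers_le.2 ha) (fun e => ha1 (zpowers_eq_bot.1 e))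
    (fun q hq => hn q (M.beta_fixed_comm hgc hβ C hq ha)) ⟨hx, hn x hxa⟩

theorem beta_cyclic (C : Components G) : IsCyclic (fixedQ r t u₁) := by
  classical
  haveI := Fact.mk M.prime
  obtain ⟨w, hw, hw1, hwu, hgen, hwc, -⟩ := M.beta_generator hgc hβ C
  obtain ⟨v, hv, hvX, hvu, hvN⟩ := M.beta_exists_normalizing hgc hβ C hw hwc
  haveI : IsMulCommutative (fixedQ r t u₁) :=
    ⟨⟨fun a b => Subtype.ext (M.beta_fixed_comm hgc hβ C a.2 b.2).eq⟩⟩
  by_contra hnc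
  obtain ⟨p, hp, E, hEF, hEp, hcard⟩ :=
    CfsgLib.Core.exists_elementary_of_not_isCyclic (fixedQ r t u₁) hnc
  set P := rCore r t ⊓ normalizer (fixedQ r t u₁ : Set G) with hP
  have hPcomm : ∀ a ∈ P, ∀ b ∈ P, Commute a b := by
    intro a ha b hb
    obtain ⟨c, hc, k, rfl⟩ := M.beta_mul hgc hβ C hgen ha.1 ha.2
    obtain ⟨d, hd, l, rfl⟩ := M.beta_mul hgc hβ C hgen hb.1 hb.2
    exact ((M.beta_fixed_comm hgc hβ C hc hd).mul_right ((hwc c hc).zpow_right l)).mul_left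
      (((hwc d hd).zpow_right k).symm.mul_right (Commute.zpow_zpow (Commute.refl w) k l))
  have hmem : ∀ a ∈ E, v * a * v⁻¹ ∈ P ∧ v⁻¹ * a * v ∈ P := fun a ha =>
    ⟨(mem_normalizer_iff.1 hvN a).1 ⟨(hEF ha).1, le_normalizer (hEF ha)⟩,
      (mem_normalizer_iff''.1 hvN a).1 ⟨(hEF ha).1, le_normalizer (hEF ha)⟩⟩
  let φ : E →* P :=
    { toFun := fun a => ⟨v * a * v⁻¹ * (v⁻¹ * a * v)⁻¹,
        P.mul_mem (hmem a a.2).1 (P.inv_mem (hmem a a.2).2)⟩
      map_one' := Subtype.ext (by simp)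
      map_mul' := fun a b => Subtype.ext (by
        show v * (a * b : G) * v⁻¹ * (v⁻¹ * (a * b) * v)⁻¹ =
          v * a * v⁻¹ * (v⁻¹ * a * v)⁻¹ * (v * b * v⁻¹ * (v⁻¹ * b * v)⁻¹)
        calc v * (a * b : G) * v⁻¹ * (v⁻¹ * (a * b) * v)⁻¹
            = v * a * v⁻¹ * (v * b * v⁻¹ * (v⁻¹ * b * v)⁻¹ * (v⁻¹ * a * v)⁻¹) := by group
          _ = _ := by
            rw [(hPcomm _ (P.mul_mem (hmem b b.2).1 (P.inv_mem (hmem b b.2).2)) _
              (P.inv_mem (hmem a a.2).2)).eq]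
            group) }
  have hinj : Function.Injective φ := by
    rw [← MonoidHom.ker_eq_bot_iff, eq_bot_iff]
    intro a ha
    by_contra ha1
    have ha1' : (a : G) ≠ 1 := fun e => ha1 (mem_bot.2 (Subtype.ext e))
    have h1 : v * a * v⁻¹ * (v⁻¹ * a * v)⁻¹ = 1 := congrArg Subtype.val (MonoidHom.mem_ker.1 ha)
    rw [mul_inv_eq_one] at h1
    have hva : Commute v a := by
      refine commute_of_sq (odd_orderOf_of_mem M.odd_Q hv) (commute_of_conj_eq ?_)
      calc v ^ 2 * a * (v ^ 2)⁻¹ = v * (v * a * v⁻¹) * v⁻¹ := by rw [pow_two]; group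
        _ = a := by rw [h1]; group
    exact hvX (M.beta_centralizer_le hgc hβ C (hEF a.2) ha1' hv hva)
  -- the image is inverted, hence in `⟨w⟩`, which has at most `p` solutions of `x ^ p = 1`
  have himg : ∀ a : E, ((φ a : P) : G) ∈ zpowers w := fun a => by
    refine hgen _ (φ a).2.1 (φ a).2.2 ?_
    have hau : u₁ * (a : G) * u₁⁻¹ = a := conj_eq_of_commute (mem_fixedQ.1 (hEF a.2)).2.symm
    show u₁ * (v * a * v⁻¹ * (v⁻¹ * a * v)⁻¹) * u₁⁻¹ = (v * a * v⁻¹ * (v⁻¹ * a * v)⁻¹)⁻¹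
    rw [show u₁ * (v * a * v⁻¹ * (v⁻¹ * a * v)⁻¹) * u₁⁻¹ = (u₁ * v * u₁⁻¹) * (u₁ * a * u₁⁻¹) *
      (u₁ * v * u₁⁻¹)⁻¹ * ((u₁ * v * u₁⁻¹)⁻¹ * (u₁ * a * u₁⁻¹) * (u₁ * v * u₁⁻¹))⁻¹ by group, hvu, hau]
    simp only [mul_inv_rev, inv_inv, mul_assoc]
  let ψ : E → zpowers w := fun a => ⟨(φ a : G), himg a⟩
  have hψ : Function.Injective ψ := fun a b e => hinj (Subtype.ext (congrArg Subtype.val e :))
  have hle : Nat.card E ≤ p := by
    haveI := Fintype.ofFinite (zpowers w)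
    haveI := Fintype.ofFinite E
    refine le_trans ?_ (IsCyclic.card_pow_eq_one_le (α := zpowers w) hp.pos)
    rw [Nat.card_eq_fintype_card, ← Finset.card_univ, ← Finset.card_map ⟨ψ, hψ⟩]
    refine Finset.card_le_card fun x hx => ?_
    obtain ⟨a, -, rfl⟩ := Finset.mem_map.1 hx
    simp only [Finset.mem_filter, Finset.mem_univ, true_and]
    refine Subtype.ext ?_
    show ((φ a : P) : G) ^ p = 1
    rw [← coe_pow, ← map_pow, show a ^ p = 1 from Subtype.ext (hEp a a.2), map_one]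
    rfl
  have := hp.two_le
  nlinarith

/-- The axis; `O(C(t))` centralises a central element of order `r` in `⟨w⟩`. -/
theorem beta_axis (C : Components G) (hH : HLemma G) (hL : NoFixedLinear G) :
    ∃ y w x, Axis σ t u₁ u₂ g₁ g₂ r y w ∧ x ∈ zpowers w ∧ orderOf x = r ∧
      (∀ z ∈ rCore r t, (∀ q ∈ rCore r t, Commute q z) → z ∈ zpowers w) ∧
      ∀ h ∈ U t, Commute h x := by
  classical
  haveI := Fact.mk M.prime
  obtain ⟨w, hw, hw1, hwu, hgen, hwc, hwZ⟩ := M.beta_generator hgc hβ C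
  have hcyc := M.beta_cyclic hgc hβ C
  obtain ⟨f, hf⟩ := IsPGroup.iff_card.1 (isPGroup_fixedQ (r := r) (t := t) (u₁ := u₁))
  have hf0 : f ≠ 0 := fun e => M.fixed_ne (card_eq_one.1 (by rw [hf, e, pow_zero]))
  obtain ⟨⟨y, hy⟩, hyo⟩ := exists_prime_orderOf_dvd_card' (G := fixedQ r t u₁) r
    (hf ▸ dvd_pow_self r hf0)
  rw [Subgroup.orderOf_mk] at hyo
  have hy1 : y ≠ 1 := fun e => by
    rw [e, orderOf_one] at hyo; exact M.prime.one_lt.ne hyo
  -- the centre has an element of order `r`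
  haveI : Nontrivial (rCore r t) := ⟨⟨⟨w, hw⟩, 1, fun e => hw1 (congrArg Subtype.val e)⟩⟩
  haveI := (isPGroup_rCore r t).center_nontrivial
  obtain ⟨k, hk, hcard⟩ := ((isPGroup_rCore r t).to_subgroup
    (center (rCore r t))).nontrivial_iff_card.1 inferInstance
  obtain ⟨⟨⟨x, hxQ⟩, hxc⟩, hxo⟩ := exists_prime_orderOf_dvd_card' (G := center (rCore r t)) r
    (hcard ▸ dvd_pow_self r hk.ne')
  rw [Subgroup.orderOf_mk, Subgroup.orderOf_mk] at hxo
  have hxcQ : ∀ q ∈ rCore r t, Commute q x := fun q hq =>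
    congrArg Subtype.val (mem_center_iff.1 hxc ⟨q, hq⟩)
  have hxw : x ∈ zpowers w := hwZ x hxQ hxcQ
  have hxline : centralizer ({t} : Set G) ≤ normalizer (zpowers x : Set G) := by
    intro c hc
    have hct := commute_of_mem_centralizer hc
    have hcx : c * x * c⁻¹ ∈ zpowers w := hwZ _ (conj_mem_Q hct hxQ) fun q hq => by
      have hq' : c⁻¹ * q * c ∈ rCore r t := by
        have := conj_mem_Q hct.inv_left hq
        rwa [inv_inv] at this
      have := (hxcQ _ hq').map (MulAut.conj c).toMonoidHom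
      simpa [mul_assoc] using this
    have heq : (zpowers (c * x * c⁻¹)).subgroupOf (zpowers w) =
        (zpowers x).subgroupOf (zpowers w) := eq_of_card_eq_of_cyclic _ _ (by
      rw [Nat.card_congr (subgroupOfEquivOfLe (zpowers_le.2 hcx)).toEquiv,
        Nat.card_congr (subgroupOfEquivOfLe (zpowers_le.2 hxw)).toEquiv, Nat.card_zpowers,
        Nat.card_zpowers, orderOf_conj])
    have h1 : c * x * c⁻¹ ∈ zpowers x := by
      have : (⟨_, hcx⟩ : zpowers w) ∈ (zpowers (c * x * c⁻¹)).subgroupOf (zpowers w) := mem_zpowers _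
      rwa [heq] at this
    refine mem_normalizer_of_conj ?_
    rintro _ ⟨j, rfl⟩
    show c * x ^ j * c⁻¹ ∈ zpowers x
    rw [← conj_zpow]
    exact (zpowers x).zpow_mem h1 j
  have hxall : ∀ h ∈ U t, Commute h x := fun h hh =>
    commute_cyclic hL M.frame (W := zpowers x) ((U_le t).trans hxline)
      (hxline (mem_centralizer_of_commute M.frame.commute₁))
      (hxline (mem_centralizer_of_commute M.frame.commute₂)) hh (mem_zpowers x)
  refine ⟨y, w, x, ⟨M, hgc, hcyc, hy, hyo, hw, hw1, hwu, hwc, fun a ha hau hay => hgen a ha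
    (M.beta_centralizer_le hgc hβ C hy hy1 ha hay) hau, fun i hi hit hiQ hiw => ?_⟩, hxw, hxo, hwZ, hxall⟩
  obtain ⟨e, he⟩ := isRElt_of_mem isPGroup_fixedQ hy
  have hnse : ¬ Group.IsSolvable (centralizer ({y} : Set G)) :=
    (M.fused_centralizer M.frame.rot₁ hgc hy hy1).not_solvable_of_inverted C.solvableLocal M.cfixed
      M.prime M.ne_two (rCore_le r t hw) (mem_centralizer_of_commute (hwc y hy).symm) hw1
      (isRElt_of_mem (isPGroup_rCore r t) hw) hwu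
  obtain ⟨l, hl⟩ := hxw
  refine hH r e t u₁ g₁ i y x M.prime M.ne_two M.cfixed M.frame.rot₁ hi hit hy1 he
    (M.commute_t hy.1) (mem_fixedQ.1 hy).2 (hgc y hy).symm (hiQ y hy) hnse (rCore_le r t hxQ)
    (fun e' => by rw [e', orderOf_one] at hxo; exact M.prime.one_lt.ne hxo)
    (isRElt_of_mem (isPGroup_rCore r t) hxQ) ?_ fun a ha _ => hxall a ha
  rw [← hl]
  exact inverted_zpow hiw l

end CfsgLib.GW.Dne.Mixed
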