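import Cfsg.Agent.Lib.GW.Dne.Mixed.Axis

/-!
# A mixed prime: the extraspecial case (interface)
-/

set_option autoImplicit false

namespace CfsgLib.GW.Dne

open Subgroup CfsgLib.GW

universe u

variable {G : Type u} [Group G]

/-- `O_r(O(C(t)))` has order `r ^ 3`, centre `⟨w⟩`, and `O(C(t))` moves `C_Q(y)`. -/
structure Cubic (σ : Hyp G) (t u₁ u₂ g₁ g₂ : G) (r : ℕ) (y w : G) : Prop where
  axis : Axis σ t u₁ u₂ g₁ g₂ r y w
  card_Q : Nat.card (rCore r t) = r ^ 3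
  fixed_eq : fixedQ r t u₁ = zpowers y
  w_order : orderOf w = r
  w_centre : ∀ q ∈ rCore r t, Commute q w
  centre_le : ∀ z ∈ rCore r t, (∀ q ∈ rCore r t, Commute q z) → z ∈ zpowers w
  w_U : ∀ h ∈ U t, Commute h w
  moved : ∃ h ∈ U t, ¬ Commute (h * y * h⁻¹) y
  side : ((∀ q ∈ rCore r t, u₂ * q * u₂⁻¹ = u₁ * q * u₁⁻¹) ∧ Commute g₂ y) ∨
    (r = 3 ∧ ∀ q ∈ rCore r t, Commute q u₂)

/-- The extraspecial case leads to the exceptional configuration. -/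
def CubicEnd (G : Type u) [Group G] : Prop :=
  ∀ (σ : Hyp G) (t u₁ u₂ g₁ g₂ : G) (r : ℕ) (y w : G), Cubic σ t u₁ u₂ g₁ g₂ r y w →
    ∃ K : Subgroup G, Exceptional σ t u₁ u₂ g₁ g₂ r w y K

end CfsgLib.GW.Dne
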