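import Cfsg.Agent.Lib.GW.Dne.Mixed.Line
import Cfsg.Agent.Lib.GW.Dne.Mixed.AlphaAxis
import Cfsg.Agent.Lib.GW.Dne.Mixed.Beta
import Cfsg.Agent.Lib.GW.Dne.Mixed.CubicDef

/-!
# No prime is mixed
-/

set_option autoImplicit false

namespace CfsgLib.GW.Dne

open Subgroup CfsgLib.GW
open CfsgLib.Signalizer (involution_sq involution_inv involution_ne_one orderOf_eq_two_of orderOf_conj)

universe u

variable {G : Type u} [Group G] [Finite G]

namespace Axis

variable {σ : Hyp G} {t u₁ u₂ g₁ g₂ : G} {r : ℕ} {y w : G} (A : Axis σ t u₁ u₂ g₁ g₂ r y w)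
include A

/-- The coordinates of a conjugate of `y` commuting with it. -/
theorem line_coords {x : G} (hx : x ∈ zpowers w) (hxo : orderOf x = r) {h : G} (hh : h ∈ U t)
    (hc : Commute (h * y * h⁻¹) y) : ∃ a b : ℤ, h * y * h⁻¹ = y ^ a * x ^ b := by
  have M := A.mixed
  haveI := Fact.mk M.prime
  obtain ⟨c, hc', k, e⟩ :=
    A.exists_mul_of_commute (Mixed.conj_mem_Q ((σ.mem_U M.ht).1 hh).1 A.y_mem.1) hc
  have hzr : c ^ r * (w ^ k) ^ r = 1 := by
    rw [← ((A.w_comm c hc').zpow_right k).mul_pow, ← e, conj_pow, ← A.y_order, pow_orderOf_eq_one,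
      mul_one, mul_inv_cancel]
  have hcr : c ^ r = 1 := A.eq_one_of_fixed_zpow (pow_mem hc' r) (k := -(k * r))
    (by rw [zpow_neg, zpow_mul, zpow_natCast]; exact eq_inv_of_mul_eq_one_left hzr)
  obtain ⟨a, rfl⟩ := mem_zpowers_of_pow_eq_one A.cyclic M.prime A.y_mem A.y_order hc' hcr
  have hwk : w ^ k ∈ zpowers x :=
    mem_zpowers_of_pow_eq_one inferInstance M.prime hx hxo (zpow_mem (mem_zpowers w) k)
      (by rwa [hcr, one_mul] at hzr)
  obtain ⟨b, hb⟩ := hwk
  exact ⟨a, b, by rw [e]; exact congrArg (y ^ a * ·) hb.symm⟩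

variable (hg₂ : g₂ ∈ normalizer (zpowers y : Set G)) (hs : Side σ t u₁ u₂ g₂ r y)
include hg₂ hs

/-- All conjugates of `y` commute with `y`. -/
theorem false_of_commuting (C : Components G) (hN : LineCount G)
    (hc : ∀ h ∈ U t, Commute (h * y * h⁻¹) y) : False := by
  have M := A.mixed
  haveI := Fact.mk M.prime
  obtain ⟨x, hx, hxo⟩ := A.exists_x
  have hx1 : x ≠ 1 := fun e => by
    rw [e, orderOf_one] at hxo; exact M.prime.one_lt.ne hxo
  refine A.false_of_bounds hg₂ hs C hN ((A.relIndex_line_le le_rfl hc).trans A.r_le_orderOf_w) hx hx1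
    fun h hh hhM j hjy hjy' => ?_
  obtain ⟨a, b, e⟩ := A.line_coords hx hxo hh (hc h hh)
  have hxb : x ^ b ≠ 1 := fun e1 => hhM (mem_normalizer_of_conj (by
    rintro _ ⟨m, rfl⟩
    show h * y ^ m * h⁻¹ ∈ zpowers y
    rw [← conj_zpow, e, e1, mul_one]
    exact zpow_mem (zpow_mem (mem_zpowers y) a) m))
  have hjb : Commute j (x ^ b) := by
    have h1 := (hjy.zpow_right a).inv_right.mul_right hjy'
    rwa [e, inv_mul_cancel_left] at h1
  obtain ⟨l, hl⟩ : x ∈ zpowers (x ^ b) :=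
    (zpowers_eq_of_prime M.prime hxo ⟨b, rfl⟩ hxb).symm ▸ mem_zpowers x
  rw [← show (x ^ b) ^ l = x from hl]
  exact hjb.zpow_right l

/-- Some conjugate of `y` does not commute with it. -/
theorem false_of_moved (C : Components G) (hB : CoreFixed G) (hL : NoFixedLinear G)
    (hX : NoExceptional G) (hN : LineCount G) (hE : CubicEnd G) {x : G} (hx : x ∈ zpowers w)
    (hxo : orderOf x = r) (hxU : ∀ h ∈ U t, Commute h x)
    (hZ : ∀ z ∈ rCore r t, (∀ q ∈ rCore r t, Commute q z) → z ∈ zpowers w)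
    (hmoved : ∃ h ∈ U t, ¬ Commute (h * y * h⁻¹) y) : False := by
  classical
  have M := A.mixed
  haveI := Fact.mk M.prime
  have hu₂ := side_commute hs A.y_mem
  have hQ := A.card_rCore hx hxo hxU hZ hL hu₂
  set Ay := axisQ r t y with hAyd
  obtain ⟨h₀, hh₀, hnc⟩ := hmoved
  set A' := Ay.map (MulAut.conj h₀).toMonoidHom with hA'
  have hh₀t : Commute h₀ t := ((σ.mem_U M.ht).1 hh₀).1
  have hA'Q : A' ≤ rCore r t := by
    rintro _ ⟨a, ha, rfl⟩
    exact Mixed.conj_mem_Q hh₀t ha.1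
  have hne : Ay ≠ A' := fun e => hnc (commute_of_mem_centralizer
    (e.symm ▸ (⟨y, A.y_mem_axisQ, rfl⟩ : h₀ * y * h₀⁻¹ ∈ A') : h₀ * y * h₀⁻¹ ∈ Ay).2)
  obtain ⟨hD, hsup⟩ := inf_of_card (A := Ay) (isPGroup_rCore r t) inf_le_left hA'Q
    (card_map_of_injective (MulAut.conj h₀).injective) hQ hne
  have hDc : ∀ d ∈ Ay ⊓ A', ∀ q ∈ rCore r t, Commute q d := fun d hd => by
    have h1 : Ay ⊔ A' ≤ centralizer ({d} : Set G) := by
      refine sup_le (fun a ha => mem_centralizer_of_commute (A.axisQ_comm ha hd.1)) ?_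
      rintro _ ⟨a, ha, rfl⟩
      obtain ⟨b, hb, eb⟩ := hd.2
      rw [← eb]
      exact mem_centralizer_of_commute ((A.axisQ_comm ha hb).map (MulAut.conj h₀).toMonoidHom)
    exact fun q hq => commute_of_mem_centralizer (h1 (hsup hq))
  have hDle : Ay ⊓ A' ≤ zpowers w := fun d hd => hZ d hd.1.1 (hDc d hd)
  have hFw : fixedQ r t u₁ ⊓ zpowers w = ⊥ := eq_bot_iff.2 fun d hd => by
    obtain ⟨m, hm⟩ := hd.2
    exact mem_bot.2 (A.eq_one_of_fixed_zpow hd.1 hm.symm)
  have h1 := card_mul_card_le A.fixedQ_le_axisQ (zpowers_le.2 A.w_mem_axisQ) hFw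
  rw [Nat.card_zpowers, ← hAyd, hD] at h1
  have hDcard : Nat.card (Ay ⊓ A' : Subgroup G) ≤ orderOf w :=
    Nat.card_zpowers w ▸ card_le_of_le hDle
  have hFr : r ≤ Nat.card (fixedQ r t u₁) :=
    ((Nat.card_zpowers y).trans A.y_order).symm.trans_le (card_le_of_le (zpowers_le.2 A.y_mem))
  have hFcard : Nat.card (fixedQ r t u₁) = r := by
    refine le_antisymm (Nat.le_of_mul_le_mul_right (h1.trans (Nat.mul_le_mul_left r hDcard))
      (orderOf_pos w)) hFr
  rw [hFcard] at h1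
  have hDeq : Ay ⊓ A' = zpowers w := eq_of_le_of_card_ge hDle (by
    rw [Nat.card_zpowers]; exact Nat.le_of_mul_le_mul_left h1 M.prime.pos)
  have hAy : Nat.card Ay = r * orderOf w := by rw [hD, hDeq, Nat.card_zpowers]
  have hwc : ∀ q ∈ rCore r t, Commute q w := hDc w (hDeq ▸ mem_zpowers w)
  have hF : fixedQ r t u₁ = zpowers y :=
    (eq_of_le_of_card_ge (zpowers_le.2 A.y_mem) (by rw [hFcard, Nat.card_zpowers, A.y_order])).symm
  have hwn : ∀ c : G, Commute c t → c * w * c⁻¹ ∈ zpowers w := fun c hc =>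
    hZ _ (Mixed.conj_mem_Q hc A.w_mem) fun q hq => by
      have hq' : c⁻¹ * q * c ∈ rCore r t := by
        have := Mixed.conj_mem_Q hc.inv_left hq
        rwa [inv_inv] at this
      have := (hwc _ hq').map (MulAut.conj c).toMonoidHom
      simpa [mul_assoc] using this
  rcases eq_or_ne (orderOf w) r with hwr | hwr
  · -- the extraspecial case
    have hCn : centralizer ({t} : Set G) ≤ normalizer (zpowers w : Set G) := fun c hc =>
      mem_normalizer_of_conj (by
        rintro _ ⟨m, rfl⟩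
        show c * w ^ m * c⁻¹ ∈ zpowers w
        rw [← conj_zpow]
        exact zpow_mem (hwn c (commute_of_mem_centralizer hc)) m)
    have hside : ((∀ q ∈ rCore r t, u₂ * q * u₂⁻¹ = u₁ * q * u₁⁻¹) ∧ Commute g₂ y) ∨
        (r = 3 ∧ ∀ q ∈ rCore r t, Commute q u₂) := by
      rcases hs with h | ⟨hn, h⟩
      · exact Or.inl h
      · exact Or.inr ⟨A.r_eq_three hg₂ (Or.inr ⟨hn, h⟩) C h, h⟩
    obtain ⟨K, hK⟩ := hE σ t u₁ u₂ g₁ g₂ r y w
      ⟨A, by rw [hQ, hAy, hwr]; ring, hF, hwr, hwc, hZ,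
        fun h hh => commute_cyclic hL M.frame (W := zpowers w) ((U_le t).trans hCn)
          (hCn (mem_centralizer_of_commute M.frame.commute₁))
          (hCn (mem_centralizer_of_commute M.frame.commute₂)) hh (mem_zpowers w),
        ⟨h₀, hh₀, hnc⟩, hside⟩
    exact hX σ t u₁ u₂ g₁ g₂ r w y K hB hK
  · -- the bound `r ^ 2`
    have hw2 : r * r ≤ orderOf w := by
      obtain ⟨k, hk⟩ := (IsPGroup.iff_orderOf.1 (isPGroup_rCore r t)) ⟨w, A.w_mem⟩
      rw [Subgroup.orderOf_mk] at hk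
      rcases k with _ | _ | k
      · exact absurd (orderOf_eq_one_iff.1 hk) A.w_ne
      · exact absurd (hk.trans (pow_one r)) hwr
      · rw [hk, ← pow_two]
        exact Nat.pow_le_pow_right M.prime.pos (by omega)
    have hN1 : rCore r t ≤ normalizer (Ay : Set G) := by
      have hlt := A.axisQ_lt hx hxo hxU hZ
      have hc := A.card_normalizer_axisQ hx hxo hxU hlt
      rw [← hAyd, ← hQ] at hc
      intro q hq
      exact ((eq_of_le_of_card_ge inf_le_left hc.ge).symm ▸ hq :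
        q ∈ rCore r t ⊓ normalizer (Ay : Set G)).2
    have hidx : (normalizer (zpowers y : Set G)).relIndex (U t) ≤ orderOf w := by
      set L := normalizer (zpowers y : Set G) with hLd
      set H := U t ⊓ normalizer (Ay : Set G) with hH
      have hLH : L ⊓ U t ≤ H := fun m hm => ⟨hm.2, mem_normalizer_of_conj fun a ha => by
        have hmt := ((σ.mem_U M.ht).1 hm.2).1
        refine ⟨Mixed.conj_mem_Q hmt ha.1, mem_centralizer_of_commute ?_⟩
        have h2 := (mem_normalizer_iff.1 hm.1 y).1 (mem_zpowers y)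
        obtain ⟨l, hl⟩ : y ∈ zpowers (m * y * m⁻¹) :=
          (zpowers_eq_of_prime M.prime A.y_order h2 fun e => A.y_ne (conj_eq_one_iff.1 e)).symm ▸
            mem_zpowers y
        rw [← show (m * y * m⁻¹) ^ l = y from hl]
        exact ((commute_of_mem_centralizer ha.2).map (MulAut.conj m).toMonoidHom).zpow_right l⟩
      have e1 : L.relIndex (U t) = (L ⊓ U t).relIndex H * H.relIndex (U t) := by
        rw [relIndex_mul_relIndex _ _ _ hLH inf_le_left, inf_relIndex_right]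
      have e2 : (L ⊓ U t).relIndex H = L.relIndex H := by
        rw [← inf_relIndex_right, inf_assoc, inf_eq_right.2 (inf_le_left : H ≤ U t), inf_relIndex_right]
      have e3 : H.relIndex (U t) = (normalizer (Ay : Set G)).relIndex (U t) := by
        rw [hH, inf_comm, inf_relIndex_right]
      rw [e1, e2, e3]
      refine le_trans (Nat.mul_le_mul (A.relIndex_line_le inf_le_left fun h hh => ?_)
        (A.relIndex_axis_le hQ hAy hwc fun h hh => hwn h ((σ.mem_U M.ht).1 hh).1)) hw2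
      exact commute_of_mem_centralizer ((mem_normalizer_iff.1 hh.2 y).1 A.y_mem_axisQ).2
    have hx1 : x ≠ 1 := fun e => by
      rw [e, orderOf_one] at hxo; exact M.prime.one_lt.ne hxo
    refine A.false_of_bounds hg₂ hs C hN hidx hx hx1 fun h hh hhM j hjy hjy' => ?_
    by_cases hc : Commute (h * y * h⁻¹) y
    · obtain ⟨a, b, e⟩ := A.line_coords hx hxo hh hc
      have hxb : x ^ b ≠ 1 := fun e1 => hhM (mem_normalizer_of_conj (by
        rintro _ ⟨m, rfl⟩
        show h * y ^ m * h⁻¹ ∈ zpowers y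
        rw [← conj_zpow, e, e1, mul_one]
        exact zpow_mem (zpow_mem (mem_zpowers y) a) m))
      have hjb : Commute j (x ^ b) := by
        have h1 := (hjy.zpow_right a).inv_right.mul_right hjy'
        rwa [e, inv_mul_cancel_left] at h1
      obtain ⟨l, hl⟩ : x ∈ zpowers (x ^ b) :=
        (zpowers_eq_of_prime M.prime hxo ⟨b, rfl⟩ hxb).symm ▸ mem_zpowers x
      rw [← show (x ^ b) ^ l = x from hl]
      exact hjb.zpow_right l
    · set y' := h * y * h⁻¹ with hy'
      have hy'Q : y' ∈ rCore r t := Mixed.conj_mem_Q ((σ.mem_U M.ht).1 hh).1 A.y_mem.1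
      set e := y' * y * y'⁻¹ * y⁻¹ with he
      have he' : e ∈ zpowers x := A.commutator_mem_line hx hxo hxU hy'Q (hN1 hy'Q)
      have he1 : e ≠ 1 := fun e1 => hc (commute_of_conj_eq (by rwa [he, mul_inv_eq_one] at e1))
      have hje : Commute j e := ((hjy'.mul_right hjy).mul_right hjy'.inv_right).mul_right hjy.inv_right
      obtain ⟨l, hl⟩ : x ∈ zpowers e :=
        (zpowers_eq_of_prime M.prime hxo he' he1).symm ▸ mem_zpowers x
      rw [← show e ^ l = x from hl]
      exact hje.zpow_right l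

end Axis

/-- No prime is mixed. -/
theorem noMixed (C : Components G) (hB : CoreFixed G) (hH : HLemma G) (hL : NoFixedLinear G)
    (hX : NoExceptional G) (hN : LineCount G) (hE : CubicEnd G) : NoMixed G := by
  classical
  intro σ t u₁ u₂ g₁ g₂ r h hr
  by_contra hno
  push Not at hno
  obtain ⟨⟨q, hq, hqu⟩, hne⟩ := hno
  haveI := Fact.mk hr
  have hodd : Odd (Nat.card (rCore r t)) :=
    (σ.odd_U h.ht).of_dvd_nat (card_dvd_of_le (rCore_le r t))
  have hr2 : r ≠ 2 := by
    intro e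
    obtain ⟨k, hk⟩ := IsPGroup.iff_card.1 (isPGroup_rCore r t)
    rw [hk, e] at hodd
    rcases k with _ | k
    · have h1 : rCore r t = ⊥ := card_eq_one.1 (by rw [hk, pow_zero])
      exact hqu ((mem_bot.1 (h1 ▸ hq)).symm ▸ Commute.one_left u₁)
    · exact hodd.not_two_dvd_nat (dvd_pow_self 2 k.succ_ne_zero)
  have huQ : u₁ ∈ normalizer (rCore r t : Set G) :=
    centralizer_le_normalizer_rCore r t (mem_centralizer_of_commute h.commute₁)
  obtain ⟨c, hc, i, hi, hcu, hiu, rfl⟩ := decomp hodd h.hu₁ huQ hq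
  have hi1 : i ≠ 1 := fun e => hqu (by rw [e, mul_one]; exact hcu)
  obtain ⟨f, hf, hf1⟩ := (bot_or_exists_ne_one _).resolve_left hne
  have hBig : Big G r := Or.inl ⟨t, rCore r t, h.ht, rCore_le r t, isPGroup_rCore r t,
    not_isCyclic_of_fixed_inverted (isPGroup_rCore r t) hr2 hf.1 hi hf1 hi1
      (commute_of_mem_centralizer hf.2) hiu⟩
  have M₀ : Mixed σ t u₁ u₂ g₁ g₂ r := ⟨h, hr, hr2, hB r hr hBig, hne, c * i, hq, hqu⟩
  obtain ⟨g, M, hgc⟩ := M₀.exists_centralizing C
  by_cases hα : ∃ z, Mixed.Central r t u₁ z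
  · obtain ⟨z, hz⟩ := hα
    obtain ⟨y, w, A, hcomm⟩ := M.alpha_axis hgc hz C hH hL
    obtain ⟨g', A', hg', hs⟩ := A.exists_rot_line C
    exact A'.false_of_commuting hg' hs C hN fun a ha =>
      hcomm _ (Mixed.conj_mem_Q ((σ.mem_U h.ht).1 ha).1 A.y_mem.1) _ A.y_mem.1
  · push Not at hα
    obtain ⟨y, w, x, A, hx, hxo, hZ, hxU⟩ := M.beta_axis hgc hα C hH hL
    obtain ⟨g', A', hg', hs⟩ := A.exists_rot_line C
    by_cases hmv : ∃ a ∈ U t, ¬ Commute (a * y * a⁻¹) y
    · exact A'.false_of_moved hg' hs C hB hL hX hN hE hx hxo hxU hZ hmv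
    · push Not at hmv
      exact A'.false_of_commuting hg' hs C hN hmv

end CfsgLib.GW.Dne
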