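import Cfsg.Agent.Lib.GW.Dne.Mixed.Alpha

/-!
# A mixed prime with a central fixed point: the fixed points are not normal in `C(t)`

If they were, `O(C(t))` would centralise `w` and `u₂` would invert an element of
`Q ⊓ C(u₁)` (H-lemma) or both classes of four-groups would be fused in `N(Q ⊓ C(u₁))`.
-/

set_option autoImplicit false

namespace CfsgLib.GW.Dne.Mixed

open Subgroup CfsgLib.GW
open CfsgLib.Signalizer (involution_sq involution_inv involution_ne_one orderOf_eq_two_of orderOf_conj)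

universe u

variable {G : Type u} [Group G] [Finite G]
variable {σ : Hyp G} {t u₁ u₂ g₁ g₂ : G} {r : ℕ} (M : Mixed σ t u₁ u₂ g₁ g₂ r)
  (hgc : ∀ q ∈ fixedQ r t u₁, Commute g₁ q) {z : G} (hz : Central r t u₁ z)
  (hall : ∀ k : G, Commute k t → ∀ q ∈ fixedQ r t u₁, k * q * k⁻¹ ∈ fixedQ r t u₁)
include M hgc hz hall

omit M hgc hz in
theorem centralizer_le_normalizer_fixedQ :
    centralizer ({t} : Set G) ≤ normalizer (fixedQ r t u₁ : Set G) := fun k hk =>
  mem_normalizer_of_conj fun q hq => hall k (commute_of_mem_centralizer hk) q hq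

theorem fused_top : Fused (normalizer (fixedQ r t u₁ : Set G)) t u₁ g₁ :=
  M.fused_normalizer M.frame.rot₁ hgc le_rfl M.fixed_ne

omit hz hgc in
theorem Q_le_normalizer : rCore r t ≤ normalizer (fixedQ r t u₁ : Set G) := fun _ hq =>
  centralizer_le_normalizer_fixedQ hall (mem_centralizer_of_commute (M.commute_t hq))

/-- A core element of `Q` is fixed. -/
theorem mem_fixedQ_of_core (C : Components G) {o : G} (ho : o ∈ rCore r t)
    (hoc : o ∈ core (normalizer (fixedQ r t u₁ : Set G))) : o ∈ fixedQ r t u₁ := by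
  haveI := Fact.mk M.prime
  obtain ⟨v, hv, hv1, hvu⟩ := M.exists_inverted
  have e := (M.fused_top hgc hz hall).inf_core_eq M.cfixed M.ne_two (isPGroup_rCore r t)
    (rCore_le r t) (M.Q_le_normalizer hall) M.u₁_mem_normalizer C.fieldTrivial (M.le_normalizer_Q _)
    hv hv1 hvu
  show o ∈ rCore r t ⊓ centralizer ({u₁} : Set G)
  rw [← e]
  exact ⟨ho, hoc⟩

theorem commute_inverted_w (C : Components G) {w : G} (hw : w ∈ rCore r t)
    (hwu : u₁ * w * u₁⁻¹ = w⁻¹) (hwc : ∀ q ∈ fixedQ r t u₁, Commute q w) {i : G} (hi : i ∈ U t)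
    (hiu : u₁ * i * u₁⁻¹ = i⁻¹) : Commute i w := by
  classical
  haveI := Fact.mk M.prime
  have hF := M.fused_top hgc hz hall
  set X := normalizer (fixedQ r t u₁ : Set G) with hX
  have hUX : U t ≤ X := (U_le t).trans (centralizer_le_normalizer_fixedQ hall)
  obtain ⟨w0, hw0, -, hgen⟩ := C.torusCyclic X t u₁ g₁ hF
  set π : X →* X ⧸ Cfsg.oddCore X := QuotientGroup.mk' _ with hπ
  have hcom : ∀ {a b : G}, a ∈ U t → b ∈ U t → u₁ * a * u₁⁻¹ = a⁻¹ → u₁ * b * u₁⁻¹ = b⁻¹ →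
      a * b * a⁻¹ * b⁻¹ ∈ core X := by
    intro a b ha hb hau hbu
    have himg : ∀ x (hx : x ∈ U t), u₁ * x * u₁⁻¹ = x⁻¹ →
        ∃ k : ℤ, π ⟨x, hUX hx⟩ = π ⟨w0, hw0.2⟩ ^ k := by
      intro x hx hxu
      obtain ⟨k, hk⟩ := hgen x ⟨hx, hUX hx⟩ hxu
      refine ⟨k, ?_⟩
      obtain ⟨hk', hmem⟩ := mem_core_iff.1 hk
      have h1 : π (⟨x, hUX hx⟩ * ((⟨w0, hw0.2⟩ : X) ^ k)⁻¹) = 1 :=
        (QuotientGroup.eq_one_iff _).2 (by convert hmem using 1; exact Subtype.ext (by simp))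
      rw [map_mul, map_inv, map_zpow, mul_inv_eq_one] at h1
      exact h1
    obtain ⟨k, hk⟩ := himg a ha hau
    obtain ⟨l, hl⟩ := himg b hb hbu
    refine mem_core_iff.2 ⟨mul_mem (mul_mem (mul_mem (hUX ha) (hUX hb)) (inv_mem (hUX ha)))
      (inv_mem (hUX hb)), (QuotientGroup.eq_one_iff
        (⟨a, hUX ha⟩ * ⟨b, hUX hb⟩ * (⟨a, hUX ha⟩ : X)⁻¹ * (⟨b, hUX hb⟩ : X)⁻¹)).1 ?_⟩
    show π _ = 1
    rw [map_mul, map_mul, map_mul, map_inv, map_inv, hk, hl,
      (Commute.zpow_zpow (Commute.refl _) k l).eq]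
    group
  -- the translation of `w` by an inverted element is fixed
  have htr : ∀ {a : G}, a ∈ U t → u₁ * a * u₁⁻¹ = a⁻¹ →
      a * w * a⁻¹ * w⁻¹ ∈ fixedQ r t u₁ ∧ Commute a (a * w * a⁻¹ * w⁻¹) := by
    intro a ha hau
    have hoQ : a * w * a⁻¹ * w⁻¹ ∈ rCore r t := (rCore r t).mul_mem
      (conj_mem_Q ((σ.mem_U M.ht).1 ha).1 hw) ((rCore r t).inv_mem hw)
    have hoF := M.mem_fixedQ_of_core hgc hz hall C hoQ (hcom ha (rCore_le r t hw) hau hwu)
    exact ⟨hoF, commute_of_inverted_normalizer ((σ.mem_U M.ht).1 ha).2 hau (mem_fixedQ.1 hoF).2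
      (mem_fixedQ.1 (hall a ((σ.mem_U M.ht).1 ha).1 _ hoF)).2⟩
  obtain ⟨e, m, hm, hem⟩ := Nat.exists_eq_pow_mul_and_not_dvd (orderOf_pos i).ne' r M.prime.ne_one
  -- the `r`-part
  have hrpart : Commute (i ^ m) w := by
    have hir : IsRElt r (i ^ m) := ⟨e, by rw [← pow_mul, mul_comm, ← hem, pow_orderOf_eq_one]⟩
    have hz' : IsPGroup r (zpowers (i ^ m)) := by
      rintro ⟨_, k, rfl⟩
      obtain ⟨f, hf⟩ := hir
      refine ⟨f, Subtype.ext ?_⟩
      show ((i ^ m) ^ k) ^ r ^ f = 1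
      rw [← zpow_natCast, ← zpow_mul, mul_comm, zpow_mul, zpow_natCast, hf, one_zpow]
    have him : u₁ * i ^ m * u₁⁻¹ = (i ^ m)⁻¹ := by rw [← conj_pow, hiu, inv_pow]
    have hiU : i ^ m ∈ U t := pow_mem hi _
    have hP : IsPGroup r (rCore r t ⊔ zpowers (i ^ m) : Subgroup G) :=
      (isPGroup_rCore r t).to_sup_of_normal_left' hz' (zpowers_le.2
        (centralizer_le_normalizer_rCore r t (U_le t hiU)))
    exact hF.commute_of_inverted M.cfixed M.ne_two hP (sup_le (rCore_le r t) (zpowers_le.2 hiU))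
      (sup_le (M.Q_le_normalizer hall) (zpowers_le.2 (hUX hiU)))
      (normalizer_inf_normalizer_le_normalizer_sup _ _
        ⟨M.u₁_mem_normalizer, zpowers_normalized_of_inverted him⟩)
      C.torusCyclic (mem_sup_right (mem_zpowers _)) (mem_sup_left hw) him hwu
  -- the part of order prime to `r`
  have hrest : Commute (i ^ r ^ e) w := by
    set a := i ^ r ^ e with ha
    have hau : u₁ * a * u₁⁻¹ = a⁻¹ := by rw [ha, ← conj_pow, hiu, inv_pow]
    obtain ⟨hoF, hoc⟩ := htr (pow_mem hi _) hau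
    set o := a * w * a⁻¹ * w⁻¹ with ho
    have hk : ∀ k : ℕ, a ^ k * w * (a ^ k)⁻¹ = o ^ k * w := by
      intro k
      induction k with
      | zero => simp
      | succ k ih =>
        calc a ^ (k + 1) * w * (a ^ (k + 1))⁻¹ = a * (a ^ k * w * (a ^ k)⁻¹) * a⁻¹ := by
              rw [pow_succ']; group
          _ = (a * o ^ k * a⁻¹) * (a * w * a⁻¹) := by rw [ih]; group
          _ = o ^ k * (o * w) := by
            rw [conj_eq_of_commute (hoc.pow_right k), show a * w * a⁻¹ = o * w by rw [ho]; group]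
          _ = o ^ (k + 1) * w := by rw [← mul_assoc, ← pow_succ]
    have ham : a ^ m = 1 := by rw [ha, ← pow_mul, ← hem, pow_orderOf_eq_one]
    have hom : o ^ m = 1 := by
      have := hk m
      rw [ham, one_mul, inv_one, mul_one] at this
      exact right_eq_mul.1 this
    obtain ⟨j, hj⟩ := isRElt_of_mem isPGroup_fixedQ hoF
    have ho1 : o = 1 := orderOf_eq_one_iff.1 (Nat.eq_one_of_dvd_coprimes
      (((Nat.Prime.coprime_iff_not_dvd M.prime).2 hm).pow_left j)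
      (orderOf_dvd_of_pow_eq_one hj) (orderOf_dvd_of_pow_eq_one hom))
    refine commute_of_conj_eq ?_
    rw [show a * w * a⁻¹ = o * w by rw [ho]; group, ho1, one_mul]
  have hco : Nat.Coprime m (r ^ e) :=
    ((Nat.Prime.coprime_iff_not_dvd M.prime).2 hm).symm.pow_right e
  have hb := Nat.gcd_eq_gcd_ab m (r ^ e)
  rw [hco] at hb
  have hsplit : i = (i ^ m) ^ Nat.gcdA m (r ^ e) * (i ^ r ^ e) ^ Nat.gcdB m (r ^ e) := by
    rw [← zpow_natCast i m, ← zpow_natCast i (r ^ e), ← zpow_mul, ← zpow_mul, ← zpow_add, ← hb,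
      Nat.cast_one, zpow_one]
  rw [hsplit]
  exact (hrpart.zpow_left _).mul_left (hrest.zpow_left _)

theorem false_of_normal (C : Components G) (hH : HLemma G) (hL : NoFixedLinear G) : False := by
  classical
  haveI := Fact.mk M.prime
  have h := M.frame
  have hF := M.fused_top hgc hz hall
  set X := normalizer (fixedQ r t u₁ : Set G) with hX
  have hCX : centralizer ({t} : Set G) ≤ X := centralizer_le_normalizer_fixedQ hall
  obtain ⟨-, w, hw, hw1, hwu, hgen, hwc⟩ := M.alpha_generator hgc hz C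
  have hwX : w ∈ X := M.Q_le_normalizer hall hw
  have hwr : IsRElt r w := isRElt_of_mem (isPGroup_rCore r t) hw
  have hns : ¬ Group.IsSolvable X := hF.not_solvable_of_inverted C.solvableLocal M.cfixed M.prime
    M.ne_two (rCore_le r t hw) hwX hw1 hwr hwu
  have hD : D t u₁ ≠ ⊥ := fun e => M.fixed_ne (le_bot_iff.1 (e ▸ M.fixedQ_le_D))
  -- `u₂` inverts `w` outside `A₇`
  have hinv : (∀ o ∈ rCore r t, o = u₂ * w * u₂⁻¹ * w → o ∈ core X) →
      u₂ * w * u₂⁻¹ = w⁻¹ := by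
    intro hco
    set o := u₂ * w * u₂⁻¹ * w with ho
    have hoQ : o ∈ rCore r t :=
      (rCore r t).mul_mem (conj_mem_Q h.commute₂ hw) hw
    have hoF := M.mem_fixedQ_of_core hgc hz hall C hoQ (hco o hoQ rfl)
    have hu2o : u₂ * o * u₂⁻¹ = o := by
      have h1 : u₂ * w * u₂⁻¹ = o * w⁻¹ := by rw [ho]; group
      have h2 : w = u₂ * o * u₂⁻¹ * (o * w⁻¹)⁻¹ := by
        calc w = u₂ * (u₂ * w * u₂⁻¹) * u₂⁻¹ := (conj_conj_involution M.hu₂).symm
          _ = _ := by rw [h1, show u₂ * (o * w⁻¹) * u₂⁻¹ = u₂ * o * u₂⁻¹ * (u₂ * w * u₂⁻¹)⁻¹ by group, h1]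
      rw [mul_inv_rev, inv_inv, ← (hwc _ (inv_mem hoF)).eq, ← mul_assoc] at h2
      exact (mul_inv_eq_one.1 (right_eq_mul.1 h2))
    have hu1o : u₁ * o * u₁⁻¹ = o := conj_eq_of_commute (mem_fixedQ.1 hoF).2.symm
    have hρ : ∀ k : ℕ, (u₁ * u₂) ^ k * w * ((u₁ * u₂) ^ k)⁻¹ = o ^ k * w := by
      intro k
      induction k with
      | zero => simp
      | succ k ih =>
        calc (u₁ * u₂) ^ (k + 1) * w * ((u₁ * u₂) ^ (k + 1))⁻¹
            = u₁ * (u₂ * ((u₁ * u₂) ^ k * w * ((u₁ * u₂) ^ k)⁻¹) * u₂⁻¹) * u₁⁻¹ := by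
              rw [pow_succ', mul_inv_rev, mul_inv_rev]; simp only [mul_assoc]
          _ = u₁ * ((u₂ * o * u₂⁻¹) ^ k * (u₂ * w * u₂⁻¹)) * u₁⁻¹ := by rw [ih, conj_pow]; group
          _ = (u₁ * o * u₁⁻¹) ^ k * (u₁ * (o * w⁻¹) * u₁⁻¹) := by
              rw [hu2o, conj_pow, show u₂ * w * u₂⁻¹ = o * w⁻¹ by rw [ho]; group]; group
          _ = o ^ k * (u₁ * o * u₁⁻¹ * (u₁ * w * u₁⁻¹)⁻¹) := by
              rw [show u₁ * (o * w⁻¹) * u₁⁻¹ = u₁ * o * u₁⁻¹ * (u₁ * w * u₁⁻¹)⁻¹ by group, hu1o]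
          _ = o ^ (k + 1) * w := by rw [hu1o, hwu, inv_inv, ← mul_assoc, ← pow_succ]
    have hom : o ^ 2 ^ σ.n = 1 := by
      have := hρ (2 ^ σ.n)
      rw [← h.ord, pow_orderOf_eq_one, one_mul, inv_one, mul_one] at this
      rw [← h.ord]
      exact right_eq_mul.1 this
    obtain ⟨j, hj⟩ := isRElt_of_mem isPGroup_fixedQ hoF
    have ho1 : o = 1 := orderOf_eq_one_iff.1 (Nat.eq_one_of_dvd_coprimes
      ((Nat.coprime_primes Nat.prime_two M.prime).2 M.ne_two.symm |>.pow σ.n j)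
      (orderOf_dvd_of_pow_eq_one hom) (orderOf_dvd_of_pow_eq_one hj))
    exact eq_inv_of_mul_eq_one_left ho1
  have hrotinv : ¬ Seven X → u₂ * w * u₂⁻¹ = w⁻¹ := fun h7 =>
    hinv fun o _ e => e ▸ C.rotInverts X t u₁ g₁ w u₂ hF hns h7 (rCore_le r t hw) hwX hwu
      (hCX (mem_centralizer_of_commute h.commute₂)) M.hu₂ h.commute₂ h.rot₂.ne.symm
  by_cases hmov : ∃ e ∈ fixedQ r t u₁, ¬ Commute e u₂
  · obtain ⟨e₀, he₀, he₀u⟩ := hmov
    have h7 : ¬ Seven X := fun h7 => he₀u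
      (seven_centralizes h7 (M.odd_Q.of_dvd_nat (card_dvd_of_le fixedQ_le)) le_rfl M.ht hF.mem_t
        (fun y hy => M.commute_t hy.1) (hCX (mem_centralizer_of_commute h.commute₂)) M.hu₂ he₀).symm
    have hu₂w := hrotinv h7
    obtain ⟨c, hc, e, he, hcu, heu, rfl⟩ := decomp (M.odd_Q.of_dvd_nat (card_dvd_of_le fixedQ_le))
      M.hu₂ (hCX (mem_centralizer_of_commute h.commute₂)) he₀
    have he1 : e ≠ 1 := fun e' => he₀u (by rw [e', mul_one]; exact hcu)
    -- `O(C(t))` centralises `w`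
    have hUW : U t ≤ normalizer (zpowers w : Set G) := by
      intro a ha
      obtain ⟨d, hd, i, hi, hdu, hiu, rfl⟩ := decomp (σ.odd_U M.ht) M.hu₁ h.left_mem_normalizer_U ha
      refine mul_mem (mem_normalizer_of_conj ?_) ?_
      · rintro _ ⟨k, rfl⟩
        obtain ⟨l, hl⟩ := hgen (d * w * d⁻¹) (conj_mem_Q ((σ.mem_U M.ht).1 hd).1 hw) (by
          rw [show u₁ * (d * w * d⁻¹) * u₁⁻¹ = (u₁ * d * u₁⁻¹) * (u₁ * w * u₁⁻¹) * (u₁ * d * u₁⁻¹)⁻¹
            by group, hwu, conj_eq_of_commute hdu.symm]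
          group)
        refine ⟨l * k, ?_⟩
        show w ^ (l * k) = d * w ^ k * d⁻¹
        rw [zpow_mul, ← conj_zpow]
        exact congrArg (· ^ k) hl
      · refine mem_normalizer_of_conj ?_
        rintro _ ⟨k, rfl⟩
        refine ⟨k, ?_⟩
        show w ^ k = i * w ^ k * i⁻¹
        rw [conj_eq_of_commute ((M.commute_inverted_w hgc hz hall C hw hwu hwc hi hiu).zpow_right k)]
    have hallw : ∀ x ∈ U t, Commute x w := fun x hx =>
      commute_cyclic hL h (W := zpowers w) hUW (zpowers_normalized_of_inverted hwu)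
        (zpowers_normalized_of_inverted hu₂w) hx (mem_zpowers w)
    obtain ⟨k, hk⟩ := isRElt_of_mem isPGroup_fixedQ he
    have hFe := M.fused_centralizer h.rot₁ hgc he he1
    have hnse : ¬ Group.IsSolvable (centralizer ({e} : Set G)) :=
      hFe.not_solvable_of_inverted C.solvableLocal M.cfixed M.prime M.ne_two (rCore_le r t hw)
        (mem_centralizer_of_commute (hwc e he).symm) hw1 hwr hwu
    exact hH r k t u₁ g₁ u₂ e w M.prime M.ne_two M.cfixed h.rot₁ M.hu₂ h.commute₂ he1 hk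
      (M.commute_t he.1) (mem_fixedQ.1 he).2 (hgc e he).symm heu hnse (rCore_le r t hw) hw1 hwr
      hu₂w (fun x hx _ => hallw x hx)
  · push Not at hmov
    have hfin : ∀ g : G, Rot t u₂ g → g ∈ X → False := fun g hg hgX =>
      Frame.not_both_fused (σ := σ) (g₁ := g₁) (g₂ := g) ⟨h.rot₁, hg, h.ord, h.pow⟩ hD hF.ne_top hCX
        hF.mem_g hgX
    have hmixed : u₂ * w * u₂⁻¹ = w⁻¹ → False := by
      intro hu₂w
      have M₂ : Mixed σ t u₂ u₁ g₂ g₁ r := ⟨h.symm, M.prime, M.ne_two, M.cfixed, fun e => M.fixed_ne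
        (le_bot_iff.1 (e ▸ fun q hq => mem_fixedQ.2 ⟨hq.1, hmov q hq⟩)), w, hw, fun hc => hw1
          (eq_one_of_fixed_inverted (odd_orderOf_of_mem M.odd_Q hw) hc hu₂w)⟩
      obtain ⟨g, hg, hgq⟩ := M₂.rot_comm C (isPGroup_fixedQ (u₁ := u₁))
        (fun q hq => ⟨rCore_le r t hq.1, mem_centralizer_of_commute (hmov q hq)⟩)
      exact hfin g hg (mem_normalizer_of_conj fun q hq => by
        rw [conj_eq_of_commute (hgq q hq)]; exact hq)
    by_cases hn : 2 ≤ σ.n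
    · by_cases h7 : Seven X
      · obtain ⟨k, hk, hkt⟩ := seven_isConj h7 hF.mem_t
          (hCX (mem_centralizer_of_commute h.commute₂)) M.ht M.hu₂
        obtain ⟨g, hgX, hg⟩ := h.exists_rot_mem hn (h.closure_le_centralizer.trans hCX) hk hkt
        exact hfin g hg hgX
      · exact hmixed (hrotinv h7)
    · have hpow := h.pow
      rw [show σ.n - 1 = 0 by omega, pow_zero, pow_one] at hpow
      refine hmixed ?_
      rw [show u₂ = u₁ * t by rw [← hpow, ← mul_assoc, involution_sq M.hu₁, one_mul],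
        show u₁ * t * w * (u₁ * t)⁻¹ = u₁ * (t * w * t⁻¹) * u₁⁻¹ by group,
        conj_eq_of_commute (M.commute_t hw).symm, hwu]

end CfsgLib.GW.Dne.Mixed
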