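import Cfsg.Agent.Lib.GW.Dne.Mixed.Basic

/-!
# A mixed prime: the axis

`Q₁ = Q ⊓ C(u₁)` is cyclic, `y` spans its elements of order `r` and the inverted elements of
`C_Q(y)` are the powers of `w`.
-/

set_option autoImplicit false

namespace CfsgLib.GW.Dne

open Subgroup CfsgLib.GW

universe u

variable {G : Type u} [Group G]

/-- The axis of a mixed prime. -/
structure Axis (σ : Hyp G) (t u₁ u₂ g₁ g₂ : G) (r : ℕ) (y w : G) : Prop where
  mixed : Mixed σ t u₁ u₂ g₁ g₂ r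
  g₁_comm : ∀ q ∈ fixedQ r t u₁, Commute g₁ q
  cyclic : IsCyclic (fixedQ r t u₁)
  y_mem : y ∈ fixedQ r t u₁
  y_order : orderOf y = r
  w_mem : w ∈ rCore r t
  w_ne : w ≠ 1
  w_inv : u₁ * w * u₁⁻¹ = w⁻¹
  w_comm : ∀ q ∈ fixedQ r t u₁, Commute q w
  inv_gen : ∀ x ∈ rCore r t, u₁ * x * u₁⁻¹ = x⁻¹ → Commute x y → x ∈ zpowers w
  kill : ∀ i : G, orderOf i = 2 → Commute i t → (∀ q ∈ fixedQ r t u₁, i * q * i⁻¹ = q⁻¹) →
    i * w * i⁻¹ = w⁻¹ → False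

namespace Axis

variable [Finite G] {σ : Hyp G} {t u₁ u₂ g₁ g₂ : G} {r : ℕ} {y w : G}
  (A : Axis σ t u₁ u₂ g₁ g₂ r y w)
include A

theorem y_ne : y ≠ 1 := fun e => by
  have h := A.y_order
  rw [e, orderOf_one] at h
  exact A.mixed.prime.one_lt.ne h

theorem fixed_comm {a b : G} (ha : a ∈ fixedQ r t u₁) (hb : b ∈ fixedQ r t u₁) : Commute a b := by
  haveI := A.cyclic
  letI := IsCyclic.commGroup (α := fixedQ r t u₁)
  exact congrArg Subtype.val (mul_comm (⟨a, ha⟩ : fixedQ r t u₁) ⟨b, hb⟩)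

/-- `C_Q(y) = Q₁ ⟨w⟩`. -/
theorem exists_mul_of_commute {q : G} (hq : q ∈ rCore r t) (hqy : Commute q y) :
    ∃ c ∈ fixedQ r t u₁, ∃ k : ℤ, q = c * w ^ k := by
  obtain ⟨c, hc, i, hi, hiu, rfl⟩ := A.mixed.decompQ hq
  have hiy : Commute i y := by
    have h := (A.fixed_comm hc A.y_mem).inv_left.mul_left hqy
    rwa [inv_mul_cancel_left] at h
  obtain ⟨k, rfl⟩ := A.inv_gen i hi hiu hiy
  exact ⟨c, hc, k, rfl⟩

theorem commute_yw : Commute y w := A.w_comm y A.y_mem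

end Axis

end CfsgLib.GW.Dne
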