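import Cfsg.Agent.Lib.GW.Dne.FixedHom

/-!
# A mixed prime: setting

`Q = O_r(O(C(t)))` has fixed points under `u₁` other than `1` and is not centralised by it.
-/

set_option autoImplicit false

namespace CfsgLib.GW.Dne

open Subgroup CfsgLib.GW
open CfsgLib.Signalizer (involution_sq involution_inv involution_ne_one orderOf_eq_two_of orderOf_conj)

universe u

variable {G : Type u} [Group G]

/-- `O_r(O(C(t))) ⊓ C(u)`. -/
noncomputable def fixedQ (r : ℕ) (t u : G) : Subgroup G := rCore r t ⊓ centralizer ({u} : Set G)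

/-- A mixed prime. -/
structure Mixed (σ : Hyp G) (t u₁ u₂ g₁ g₂ : G) (r : ℕ) : Prop where
  frame : Frame σ t u₁ u₂ g₁ g₂
  prime : r.Prime
  ne_two : r ≠ 2
  cfixed : CFixed G r
  fixed_ne : fixedQ r t u₁ ≠ ⊥
  moved : ∃ q ∈ rCore r t, ¬ Commute q u₁

variable [Finite G]

/-- A cyclic `r`-group normalised by an involution is centralised or inverted. -/
theorem fixed_or_inverted {r : ℕ} [Fact r.Prime] {P : Subgroup G} (hP : IsPGroup r P) (hr : r ≠ 2)
    (hc : IsCyclic P) {i : G} (hi : orderOf i = 2) (hiP : i ∈ normalizer (P : Set G)) :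
    (∀ x ∈ P, Commute x i) ∨ ∀ x ∈ P, i * x * i⁻¹ = x⁻¹ := by
  classical
  by_contra hno
  push Not at hno
  obtain ⟨⟨x, hx, hxi⟩, y, hy, hyi⟩ := hno
  obtain ⟨c, hcP, s, hsP, hci, hsi, rfl⟩ := decomp (Setting.odd_of_pGroup hr hP) hi hiP hx
  obtain ⟨c', hc'P, s', hs'P, hc'i, hs'i, rfl⟩ := decomp (Setting.odd_of_pGroup hr hP) hi hiP hy
  have hs1 : s ≠ 1 := fun e => hxi (by rw [e, mul_one]; exact hci)
  have hc1 : c' ≠ 1 := fun e => hyi (by rw [e, one_mul]; exact hs'i)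
  exact not_isCyclic_of_fixed_inverted hP hr hc'P hsP hc1 hs1 hc'i hsi hc

/-- An action of order two commuting with the involution and with the same fixed points is the
action of the involution. -/
theorem conj_eq_conj_of_fixed_eq {Q : Subgroup G} (hQ : Odd (Nat.card Q)) {u i : G}
    (hu : orderOf u = 2) (huQ : u ∈ normalizer (Q : Set G)) (hiQ : i ∈ normalizer (Q : Set G))
    (hii : ∀ q ∈ Q, i * (i * q * i⁻¹) * i⁻¹ = q)
    (hcomm : ∀ q ∈ Q, u * (i * q * i⁻¹) * u⁻¹ = i * (u * q * u⁻¹) * i⁻¹)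
    (hfix : ∀ q ∈ Q, Commute q u ↔ Commute q i) {q : G} (hq : q ∈ Q) :
    i * q * i⁻¹ = u * q * u⁻¹ := by
  obtain ⟨c₀, hc₀, j, hjQ, hc₀u, hju, rfl⟩ := decomp hQ hu huQ hq
  set j' : G := i * j * i⁻¹ with hj'
  have hj'Q : j' ∈ Q := (mem_normalizer_iff.1 hiQ j).1 hjQ
  set d : G := j'⁻¹ * j with hd
  have hdQ : d ∈ Q := Q.mul_mem (Q.inv_mem hj'Q) hjQ
  have hid : i * d * i⁻¹ = d⁻¹ := by
    rw [hd, show i * (j'⁻¹ * j) * i⁻¹ = (i * j' * i⁻¹)⁻¹ * (i * j * i⁻¹) by group, hj', hii j hjQ]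
    group
  obtain ⟨m, hm⟩ := odd_orderOf_of_mem hQ hdQ
  set s : G := d ^ (m + 1) with hs
  have hsQ : s ∈ Q := Q.pow_mem hdQ _
  have hss : s * s = d := by
    rw [hs, ← pow_add, show m + 1 + (m + 1) = orderOf d + 1 by omega, pow_succ, pow_orderOf_eq_one,
      one_mul]
  have his : i * s * i⁻¹ = s⁻¹ := by rw [hs, ← conj_pow, hid, inv_pow]
  set c : G := j * s⁻¹ with hc
  have hcQ : c ∈ Q := Q.mul_mem hjQ (Q.inv_mem hsQ)
  have hci : Commute c i := by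
    refine (commute_of_conj_eq ?_).symm
    rw [hc, show i * (j * s⁻¹) * i⁻¹ = (i * j * i⁻¹) * (i * s * i⁻¹)⁻¹ by group, his, inv_inv, ← hj']
    calc j' * s = j' * (s * s) * s⁻¹ := by group
      _ = j * s⁻¹ := by rw [hss, hd]; group
  have hcu : Commute c u := (hfix c hcQ).2 hci
  have hus : u * s * u⁻¹ = c⁻¹ * s⁻¹ * c⁻¹ := by
    calc u * s * u⁻¹ = (u * c * u⁻¹)⁻¹ * (u * (c * s) * u⁻¹) := by group
      _ = c⁻¹ * j⁻¹ := by rw [conj_eq_of_commute hcu.symm, show c * s = j by rw [hc]; group, hju]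
      _ = c⁻¹ * s⁻¹ * c⁻¹ := by rw [show j = c * s by rw [hc]; group]; group
  have hc2 : s * (c * c) * s⁻¹ = (c * c)⁻¹ := by
    have h1 := hcomm s hsQ
    rw [his, show u * s⁻¹ * u⁻¹ = (u * s * u⁻¹)⁻¹ by group, hus,
      show i * (c⁻¹ * s⁻¹ * c⁻¹) * i⁻¹ = (i * c * i⁻¹)⁻¹ * (i * s * i⁻¹)⁻¹ * (i * c * i⁻¹)⁻¹ by group,
      his, conj_eq_of_commute hci.symm, inv_inv] at h1
    calc s * (c * c) * s⁻¹ = c⁻¹ * (c * s * c) * c * s⁻¹ := by group
      _ = c⁻¹ * (c⁻¹ * s * c⁻¹) * c * s⁻¹ := by rw [← h1]; group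
      _ = (c * c)⁻¹ := by group
  have hc1 : c = 1 :=
    eq_one_of_inv_self (odd_orderOf_of_mem hQ hcQ) (inv_eq_of_mul_eq_one_right
      (eq_one_of_conj_eq_inv (odd_orderOf_of_mem hQ hsQ)
        (odd_orderOf_of_mem hQ (Q.mul_mem hcQ hcQ)) hc2))
  have hjs : j = s := by rw [hc, mul_inv_eq_one] at hc1; exact hc1
  calc i * (c₀ * j) * i⁻¹ = (i * c₀ * i⁻¹) * (i * j * i⁻¹) := by group
    _ = (u * c₀ * u⁻¹) * (u * j * u⁻¹) := by
      rw [conj_eq_of_commute ((hfix c₀ hc₀).1 hc₀u).symm, conj_eq_of_commute hc₀u.symm, hju, hjs, his]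
    _ = u * (c₀ * j) * u⁻¹ := by group

namespace Mixed

variable {σ : Hyp G} {t u₁ u₂ g₁ g₂ : G} {r : ℕ} (M : Mixed σ t u₁ u₂ g₁ g₂ r)
include M

theorem ht : orderOf t = 2 := M.frame.ht
theorem hu₁ : orderOf u₁ = 2 := M.frame.hu₁
theorem hu₂ : orderOf u₂ = 2 := M.frame.hu₂

theorem commute_t {q : G} (hq : q ∈ rCore r t) : Commute q t :=
  ((σ.mem_U M.ht).1 (rCore_le r t hq)).1

omit M in
theorem conj_mem_Q {c q : G} (hc : Commute c t) (hq : q ∈ rCore r t) : c * q * c⁻¹ ∈ rCore r t :=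
  (mem_normalizer_iff.1 (centralizer_le_normalizer_rCore r t (mem_centralizer_of_commute hc)) q).1 hq

theorem u₁_mem_normalizer : u₁ ∈ normalizer (rCore r t : Set G) :=
  centralizer_le_normalizer_rCore r t (mem_centralizer_of_commute M.frame.commute₁)

theorem u₂_mem_normalizer : u₂ ∈ normalizer (rCore r t : Set G) :=
  centralizer_le_normalizer_rCore r t (mem_centralizer_of_commute M.frame.commute₂)

theorem odd_Q : Odd (Nat.card (rCore r t)) :=
  (σ.odd_U M.ht).of_dvd_nat (card_dvd_of_le (rCore_le r t))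

theorem le_normalizer_Q (X : Subgroup G) : U t ⊓ X ≤ normalizer (rCore r t : Set G) :=
  inf_le_left.trans ((U_le t).trans (centralizer_le_normalizer_rCore r t))

omit M [Finite G] in
theorem fixedQ_le : fixedQ r t u₁ ≤ rCore r t := inf_le_left

theorem fixedQ_le_D : fixedQ r t u₁ ≤ D t u₁ := inf_le_inf_right _ (rCore_le r t)

omit M [Finite G] in
theorem mem_fixedQ {q : G} : q ∈ fixedQ r t u₁ ↔ q ∈ rCore r t ∧ Commute q u₁ :=
  ⟨fun h => ⟨h.1, commute_of_mem_centralizer h.2⟩, fun h => ⟨h.1, mem_centralizer_of_commute h.2⟩⟩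

omit M [Finite G] in
theorem isPGroup_fixedQ : IsPGroup r (fixedQ r t u₁) := (isPGroup_rCore r t).to_le inf_le_left

theorem decompQ {q : G} (hq : q ∈ rCore r t) :
    ∃ c ∈ fixedQ r t u₁, ∃ i ∈ rCore r t, u₁ * i * u₁⁻¹ = i⁻¹ ∧ q = c * i := by
  obtain ⟨c, hc, i, hi, hcu, hiu, e⟩ := decomp M.odd_Q M.hu₁ M.u₁_mem_normalizer hq
  exact ⟨c, mem_fixedQ.2 ⟨hc, hcu⟩, i, hi, hiu, e⟩

theorem exists_inverted : ∃ v ∈ rCore r t, v ≠ 1 ∧ u₁ * v * u₁⁻¹ = v⁻¹ := by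
  obtain ⟨q, hq, hqu⟩ := M.moved
  obtain ⟨c, hc, i, hi, hiu, rfl⟩ := M.decompQ hq
  exact ⟨i, hi, fun e => hqu (by rw [e, mul_one]; exact (mem_fixedQ.1 hc).2), hiu⟩

/-- Every `r`-subgroup of `D t u₁` is centralised by a rotation. -/
theorem rot_comm (C : Components G) {R : Subgroup G} (hR : IsPGroup r R) (hRD : R ≤ D t u₁) :
    ∃ g, Rot t u₁ g ∧ ∀ x ∈ R, Commute g x := by
  classical
  haveI := Fact.mk M.prime
  have h := M.frame
  obtain ⟨P, hPS⟩ := h.exists_invariant_sylow r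
  set PG := (P : Subgroup (U t)).map (U t).subtype with hPG
  set PF := PG ⊓ centralizer ({u₁} : Set G) with hPF
  have hP : u₁ ∈ normalizer (PG : Set G) := hPS (subset_closure (by simp))
  obtain ⟨c, hcD, hc⟩ := h.fixed_card_max hP hR hRD
  obtain ⟨hct, hcu, -⟩ := (σ.mem_D h.ht).1 hcD
  suffices hmain : ∃ g, Rot t u₁ g ∧ ∀ x ∈ PF, Commute g x by
    obtain ⟨g, hg, hgP⟩ := hmain
    refine ⟨c⁻¹ * g * c, ?_, fun x hx => ?_⟩
    · have := hg.conj c⁻¹
      rwa [inv_inv, show c⁻¹ * t * c = t by rw [mul_assoc, ← hct.eq, inv_mul_cancel_left],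
        show c⁻¹ * u₁ * c = u₁ by rw [mul_assoc, ← hcu.eq, inv_mul_cancel_left]] at this
    · have := (hgP _ (hc x hx)).map (MulAut.conj c⁻¹).toMonoidHom
      simpa [mul_assoc] using this
  by_cases hbot : PF = ⊥
  · exact ⟨g₁, h.rot₁, fun x hx => by rw [hbot, mem_bot] at hx; rw [hx]; exact Commute.one_right _⟩
  obtain ⟨g', hg', hg'N⟩ := h.exists_rot_normalizing hP
  have hPFD : PF ≤ D t u₁ := fun x hx => ⟨map_subtype_le _ hx.1, hx.2⟩
  set X := normalizer (PF : Set G) with hX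
  have hF : Fused X t u₁ g' := ⟨σ.normalizer_ne_top_of_odd hbot
    ((σ.odd_D h.ht).of_dvd_nat (card_dvd_of_le hPFD)),
    h.le_normalizer_fixed (hPS h.t_mem_closure) t (by simp),
    h.le_normalizer_fixed (hPS h.t_mem_closure) u₁ (by simp), hg'N, hg'⟩
  obtain ⟨q, hq, hqu⟩ := M.moved
  have hQP : rCore r t ≤ PG := map_mono (CfsgLib.Core.pCore_le_sylow P)
  have hlt : PF < PG := lt_of_le_of_ne inf_le_left fun e => hqu
    (commute_of_mem_centralizer ((e ▸ hQP hq : q ∈ PF)).2)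
  obtain ⟨v, hv, hvF, hvN, hvi⟩ := exists_inverted_normalizer (P.2.map _) M.ne_two h.hu₁ hP hF.mem_u
    hlt fun a ha hau => ⟨ha, mem_centralizer_of_commute hau⟩
  have hns : ¬ Group.IsSolvable X := hF.not_solvable_of_inverted C.solvableLocal M.cfixed M.prime
    M.ne_two (map_subtype_le _ hv) hvN (fun e => hvF (e ▸ one_mem PF)) (isRElt_of_mem (P.2.map _) hv) hvi
  obtain ⟨g'', hg''N, hg''⟩ := C.normalCover X (X ⊓ centralizer (PF : Set G)) t u₁ g' hF hns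
    inf_le_left (fun y hy => mem_normalizer_centralizer hy)
    ⟨hF.mem_t, mem_centralizer_iff.2 fun y hy => ((σ.mem_D h.ht).1 (hPFD hy)).1.eq⟩
  exact ⟨g'', hg'', fun x hx => (mem_centralizer_iff.1 hg''N.2 x hx).symm⟩

/-- The frame may be chosen with a rotation centralising the fixed points. -/
theorem exists_centralizing (C : Components G) :
    ∃ g, Mixed σ t u₁ u₂ g g₂ r ∧ ∀ q ∈ fixedQ r t u₁, Commute g q := by
  obtain ⟨g, hg, hgc⟩ := M.rot_comm C isPGroup_fixedQ M.fixedQ_le_D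
  exact ⟨g, ⟨⟨hg, M.frame.rot₂, M.frame.ord, M.frame.pow⟩, M.prime, M.ne_two, M.cfixed, M.fixed_ne,
    M.moved⟩, hgc⟩

/-- A subgroup of fixed points of the core gives fused subgroups. -/
theorem fused_centralizer {g : G} (hg : Rot t u₁ g) (hgc : ∀ q ∈ fixedQ r t u₁, Commute g q) {z : G}
    (hz : z ∈ fixedQ r t u₁) (hz1 : z ≠ 1) : Fused (centralizer ({z} : Set G)) t u₁ g :=
  ⟨σ.centralizer_ne_top hz1, mem_centralizer_of_commute (M.commute_t hz.1).symm,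
    mem_centralizer_of_commute (mem_fixedQ.1 hz).2.symm, mem_centralizer_of_commute (hgc z hz), hg⟩

theorem fused_normalizer {g : G} (hg : Rot t u₁ g) (hgc : ∀ q ∈ fixedQ r t u₁, Commute g q)
    {Y : Subgroup G} (hY : Y ≤ fixedQ r t u₁) (hY1 : Y ≠ ⊥) :
    Fused (normalizer (Y : Set G)) t u₁ g := by
  have key : ∀ s : G, (∀ q ∈ Y, Commute s q) → s ∈ normalizer (Y : Set G) := fun s hs =>
    mem_normalizer_of_conj fun q hq => by rw [conj_eq_of_commute (hs q hq)]; exact hq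
  exact ⟨σ.normalizer_ne_top_of_odd hY1
      (M.odd_Q.of_dvd_nat (card_dvd_of_le (hY.trans fixedQ_le))),
    key t fun q hq => (M.commute_t (hY hq).1).symm,
    key u₁ fun q hq => (mem_fixedQ.1 (hY hq)).2.symm,
    key g fun q hq => hgc q (hY hq), hg⟩

end Mixed

end CfsgLib.GW.Dne
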