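import Cfsg.Agent.Lib.GW.Dne.Mixed.InvertedAbelian

/-!
# An inverted complement of `⟨y⟩` normal in `C(t)` does not exist
-/

set_option autoImplicit false

namespace CfsgLib.GW.Dne

open Subgroup CfsgLib.GW

universe u

variable {G : Type u} [Group G] [Finite G]

/-- An element of a cyclic group with `r`-th power trivial is a power of any element of order `r`. -/
theorem mem_zpowers_of_pow_eq_one {C : Subgroup G} (hC : IsCyclic C) {r : ℕ} (hr : r.Prime) {a z : G}
    (ha : a ∈ C) (hao : orderOf a = r) (hz : z ∈ C) (hzr : z ^ r = 1) : z ∈ zpowers a := by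
  rcases (Nat.dvd_prime hr).1 (orderOf_dvd_of_pow_eq_one hzr) with e | e
  · rw [orderOf_eq_one_iff.1 e]; exact one_mem _
  · haveI := hC
    have h := eq_of_card_eq_of_cyclic ((zpowers z).subgroupOf C) ((zpowers a).subgroupOf C) (by
      rw [Nat.card_congr (subgroupOfEquivOfLe (zpowers_le.2 hz)).toEquiv,
        Nat.card_congr (subgroupOfEquivOfLe (zpowers_le.2 ha)).toEquiv, Nat.card_zpowers,
        Nat.card_zpowers, e, hao])
    have h1 : (⟨z, hz⟩ : C) ∈ (zpowers z).subgroupOf C := mem_zpowers _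
    rwa [h] at h1

namespace Axis

variable {σ : Hyp G} {t u₁ u₂ g₁ g₂ : G} {r : ℕ} {y w : G} (A : Axis σ t u₁ u₂ g₁ g₂ r y w)
include A

theorem false_of_inverted_complement (hL : NoFixedLinear G) (B : Subgroup G) (hB : B ≤ rCore r t)
    (hBn : centralizer ({t} : Set G) ≤ normalizer (B : Set G))
    (hBi : ∀ b ∈ B, u₁ * b * u₁⁻¹ = b⁻¹) (hF : fixedQ r t u₁ = zpowers y)
    (hgen : ∀ q ∈ rCore r t, u₁ * q * u₁⁻¹ = q⁻¹ → q ∈ B) (hu₂ : Commute u₂ y)
    (hne : ∃ b ∈ B, ¬ Commute b y ∧ Commute (y * b * y⁻¹ * b⁻¹) y) : False := by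
  classical
  have M := A.mixed
  have h := M.frame
  haveI := Fact.mk M.prime
  have hconj : ∀ {c z : G}, Commute c t → z ∈ B → c * z * c⁻¹ ∈ B := fun hc hz =>
    (mem_normalizer_iff.1 (hBn (mem_centralizer_of_commute hc)) _).1 hz
  have hcomm : ∀ a ∈ B, ∀ c ∈ B, Commute a c := fun a ha c hc =>
    CfsgLib.PGroups.BSW.commute_of_inverted B hBi ha hc
  have hyQ := A.y_mem.1
  have hyt := M.commute_t hyQ
  have hsplit : ∀ q ∈ rCore r t, ∃ a : ℤ, y ^ (-a) * q ∈ B := fun q hq => by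
    obtain ⟨c, hc, i, hi, hiu, rfl⟩ := M.decompQ hq
    rw [hF] at hc
    obtain ⟨a, rfl⟩ := hc
    exact ⟨a, by show y ^ (-a) * (y ^ a * i) ∈ B; rw [zpow_neg, inv_mul_cancel_left]; exact hgen i hi hiu⟩
  have huniq : ∀ a : ℤ, y ^ a ∈ B → (a : ZMod r) = 0 := fun a ha => by
    rw [ZMod.intCast_zmod_eq_zero_iff_dvd, ← A.y_order]
    refine orderOf_dvd_iff_zpow_eq_one.2 (eq_one_of_fixed_inverted
      (odd_orderOf_of_mem M.odd_Q (hB ha)) ((Mixed.mem_fixedQ.1 A.y_mem).2.zpow_left a) (hBi _ ha))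
  have hmem : ∀ h : U t, ∃ a : ℤ, y ^ (-a) * ((h : G) * y * (h : G)⁻¹) ∈ B := fun h =>
    hsplit _ (Mixed.conj_mem_Q ((σ.mem_U M.ht).1 h.2).1 hyQ)
  choose f hf using hmem
  have hfval : ∀ (h : U t) (a : ℤ), y ^ (-a) * ((h : G) * y * (h : G)⁻¹) ∈ B →
      (f h : ZMod r) = a := fun h a ha => by
    have h1 := huniq (f h - a) (by
      have e : y ^ (f h - a) = y ^ (-a) * ((h : G) * y * (h : G)⁻¹) *
          (y ^ (-f h) * ((h : G) * y * (h : G)⁻¹))⁻¹ := by group
      rw [e]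
      exact B.mul_mem ha (B.inv_mem (hf h)))
    rwa [Int.cast_sub, sub_eq_zero] at h1
  -- powers modulo `B`
  haveI : (B.subgroupOf (rCore r t)).Normal := normal_subgroupOf_of_le_normalizer fun q hq =>
    mem_normalizer_of_conj fun z hz => hconj (M.commute_t hq) hz
  let π : rCore r t →* rCore r t ⧸ B.subgroupOf (rCore r t) := QuotientGroup.mk' _
  have hπ : ∀ (p q : rCore r t), ((p : G)⁻¹ * q ∈ B) → π p = π q := fun p q hpq => QuotientGroup.eq.2 hpq
  let χ₀ : U t →* ZMod r :=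
    { toFun := fun h => (f h : ZMod r)
      map_one' := by
        refine (hfval 1 1 ?_).trans (Int.cast_one)
        rw [OneMemClass.coe_one, zpow_neg, zpow_one, one_mul, inv_one, mul_one, inv_mul_cancel]
        exact B.one_mem
      map_mul' := fun p q => by
        refine (hfval (p * q) (f p * f q) ?_).trans (Int.cast_mul _ _)
        have hpt := ((σ.mem_U M.ht).1 p.2).1
        have hp1 : π ⟨(p : G) * y * (p : G)⁻¹, Mixed.conj_mem_Q hpt hyQ⟩ = π ⟨y, hyQ⟩ ^ f p := by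
          rw [← map_zpow]
          refine (hπ _ _ ?_).symm
          rw [coe_zpow, ← zpow_neg]
          exact hf p
        have hq1 : (p : G) * (y ^ (-f q) * ((q : G) * y * (q : G)⁻¹)) * (p : G)⁻¹ ∈ B :=
          hconj hpt (hf q)
        have h2 : π ⟨(p * q : U t) * y * ((p * q : U t) : G)⁻¹,
            Mixed.conj_mem_Q ((σ.mem_U M.ht).1 (p * q).2).1 hyQ⟩ = π ⟨y, hyQ⟩ ^ (f p * f q) := by
          rw [zpow_mul, ← hp1, ← map_zpow]
          refine (hπ _ _ ?_).symm
          rw [coe_zpow, conj_zpow]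
          convert hq1 using 1
          show ((p : G) * y ^ f q * (p : G)⁻¹)⁻¹ * ((p : G) * (q : G) * y * ((p : G) * (q : G))⁻¹) = _
          group
        rw [← map_zpow] at h2
        have h3 := QuotientGroup.eq.1 h2.symm
        rw [mem_subgroupOf, Subgroup.coe_mul, Subgroup.coe_inv, coe_zpow, ← zpow_neg] at h3
        exact h3 }
  have hχfix : ∀ s : G, Commute s y → Commute s t → Fixed t s χ₀.toHomUnits := fun s hsy hst p q hpq => by
    refine Units.ext ?_
    show (f q : ZMod r) = f p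
    refine hfval q (f p) ?_
    have h1 := hconj hst (hf p)
    convert h1 using 1
    have e1 : s * y ^ (-f p) * s⁻¹ = y ^ (-f p) := conj_eq_of_commute (hsy.zpow_right _)
    have e2 : s⁻¹ * y * s = y := by rw [mul_assoc, ← hsy.eq, inv_mul_cancel_left]
    calc y ^ (-f p) * ((q : G) * y * (q : G)⁻¹)
        = s * y ^ (-f p) * s⁻¹ * (s * ((p : G) * (s⁻¹ * y * s) * (p : G)⁻¹) * s⁻¹) := by
          rw [hpq, e1]; group
      _ = _ := by rw [e2]; group
  have hy : ∀ p ∈ U t, p * y * p⁻¹ * y⁻¹ ∈ B := fun p hp => by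
    have hone := eq_one_of_fixed hL h χ₀.toHomUnits (fun a b => mul_comm _ _)
      (hχfix u₁ (Mixed.mem_fixedQ.1 A.y_mem).2.symm h.commute₁) (hχfix u₂ hu₂ h.commute₂) ⟨p, hp⟩
    have hfp : ((f ⟨p, hp⟩ - 1 : ℤ) : ZMod r) = 0 := by
      rw [Int.cast_sub, Int.cast_one, sub_eq_zero]
      exact congrArg Units.val hone
    rw [ZMod.intCast_zmod_eq_zero_iff_dvd, ← A.y_order, orderOf_dvd_iff_zpow_eq_one, zpow_sub_one,
      mul_inv_eq_one] at hfp
    have h1 := hf ⟨p, hp⟩
    rw [zpow_neg, hfp] at h1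
    have := hconj hyt h1
    simpa [mul_assoc] using this
  have hwB : w ∈ B := hgen w A.w_mem A.w_inv
  have hCB : ∀ z ∈ B, Commute z y → z ∈ zpowers w := fun z hz hzy => A.inv_gen z (hB hz) (hBi z hz) hzy
  have hW : ∀ c : G, Commute c t → c⁻¹ * y * c * y⁻¹ ∈ B → c ∈ normalizer (zpowers w : Set G) := by
    intro c hct hcy
    refine mem_normalizer_of_conj ?_
    rintro _ ⟨k, rfl⟩
    show c * w ^ k * c⁻¹ ∈ zpowers w
    rw [← conj_zpow]
    refine zpow_mem (hCB _ (hconj hct hwB) ?_) k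
    have h1 : Commute w (c⁻¹ * y * c) := by
      have h2 := (hcomm w hwB _ hcy).mul_right A.commute_yw.symm
      rwa [inv_mul_cancel_right] at h2
    have := h1.map (MulAut.conj c).toMonoidHom
    simpa [mul_assoc] using this
  refine A.false_of_inverted_abelian hL B hB hBn hBi hy hu₂ (fun p hp z hz hzy => ?_) hne
  refine commute_cyclic hL h (W := zpowers w) (fun c hc => hW c ((σ.mem_U M.ht).1 hc).1 (by
    have := hy _ (inv_mem hc)
    rwa [inv_inv] at this))
    (hW u₁ h.commute₁ (by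
      rw [mul_assoc u₁⁻¹, (Mixed.mem_fixedQ.1 A.y_mem).2.eq, inv_mul_cancel_left, mul_inv_cancel]
      exact B.one_mem))
    (hW u₂ h.commute₂ (by
      rw [mul_assoc u₂⁻¹, ← hu₂.eq, inv_mul_cancel_left, mul_inv_cancel]; exact B.one_mem))
    hp (hCB z hz hzy)

end Axis

end CfsgLib.GW.Dne
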