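import Cfsg.Agent.Lib.GW.Dne.Mixed.Axis

/-!
# A mixed prime: the second reflection

`u₂` acts on `Q` as `u₁` or centralises it; in the second case `N(⟨y⟩)` has quotient `A₇`.
-/

set_option autoImplicit false

namespace CfsgLib.GW.Dne.Axis

open Subgroup CfsgLib.GW
open CfsgLib.Signalizer (involution_sq involution_inv involution_ne_one orderOf_eq_two_of orderOf_conj)

universe u

variable {G : Type u} [Group G] [Finite G]
variable {σ : Hyp G} {t u₁ u₂ g₁ g₂ : G} {r : ℕ} {y w : G} (A : Axis σ t u₁ u₂ g₁ g₂ r y w)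
include A

/-- `N(⟨y⟩)` is fused. -/
theorem fused_line : Fused (normalizer (zpowers y : Set G)) t u₁ g₁ :=
  A.mixed.fused_normalizer A.mixed.frame.rot₁ A.g₁_comm (zpowers_le.2 A.y_mem)
    (fun e => A.y_ne (zpowers_eq_bot.1 e))

theorem w_mem_line : w ∈ normalizer (zpowers y : Set G) :=
  mem_normalizer_of_conj fun q hq => by
    obtain ⟨k, rfl⟩ := hq
    show w * y ^ k * w⁻¹ ∈ zpowers y
    rw [conj_eq_of_commute (A.commute_yw.symm.zpow_right k)]
    exact zpow_mem (mem_zpowers y) k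

/-- An element inverting or centralising `Q₁` moves `w` into its powers. -/
theorem conj_w_mem {i : G} (hit : Commute i t)
    (hcomm : u₁ * (i * w * i⁻¹) * u₁⁻¹ = i * (u₁ * w * u₁⁻¹) * i⁻¹)
    (hy : i * y * i⁻¹ = y ∨ i * y * i⁻¹ = y⁻¹) : i * w * i⁻¹ ∈ zpowers w := by
  refine A.inv_gen _ (Mixed.conj_mem_Q hit A.w_mem) (by rw [hcomm, A.w_inv]; group) ?_
  have h1 : Commute (i * w * i⁻¹) (i * y * i⁻¹) := A.commute_yw.symm.map (MulAut.conj i).toMonoidHom
  rcases hy with e | e <;> rw [e] at h1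
  · exact h1
  · simpa using h1.inv_right

/-- An action fixing `Q₁` and inverting `w` has fixed points `Q₁`. -/
theorem fixed_eq_of_inverts {i : G} (hit : Commute i t)
    (hcomm : ∀ q ∈ rCore r t, u₁ * (i * q * i⁻¹) * u₁⁻¹ = i * (u₁ * q * u₁⁻¹) * i⁻¹)
    (hfix : ∀ q ∈ fixedQ r t u₁, Commute q i) (hw : i * w * i⁻¹ = w⁻¹) {q : G}
    (hq : q ∈ rCore r t) : Commute q u₁ ↔ Commute q i := by
  haveI := Fact.mk A.mixed.prime
  refine ⟨fun hu => hfix q (Mixed.mem_fixedQ.2 ⟨hq, hu⟩), fun hqi => ?_⟩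
  by_contra hno
  set F := fixedQ r t u₁ with hF
  set P := rCore r t ⊓ centralizer ({i} : Set G) with hP
  have hFP : F < P := by
    refine lt_of_le_not_ge (fun p hp => ⟨hp.1, mem_centralizer_of_commute (hfix p hp)⟩) fun hle => ?_
    exact hno (Mixed.mem_fixedQ.1 (hle ⟨hq, mem_centralizer_of_commute hqi⟩)).2
  have huP : u₁ ∈ normalizer (P : Set G) := mem_normalizer_of_conj fun p hp => by
    refine ⟨Mixed.conj_mem_Q A.mixed.frame.commute₁ hp.1,
      mem_centralizer_of_commute (commute_of_conj_eq ?_).symm⟩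
    rw [← hcomm p hp.1, conj_eq_of_commute (commute_of_mem_centralizer hp.2).symm]
  have huF : u₁ ∈ normalizer (F : Set G) := mem_normalizer_of_conj fun p hp => by
    rw [conj_eq_of_commute (Mixed.mem_fixedQ.1 hp).2.symm]; exact hp
  obtain ⟨v, hvP, hvF, hvN, hvu⟩ := exists_inverted_normalizer
    ((isPGroup_rCore r t).to_le inf_le_left) A.mixed.ne_two A.mixed.hu₁ huP huF hFP
    fun p hp hpu => Mixed.mem_fixedQ.2 ⟨hp.1, hpu⟩
  have hvy : Commute v y := commute_of_inverted_normalizer (odd_orderOf_of_mem A.mixed.odd_Q hvP.1) hvu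
    (Mixed.mem_fixedQ.1 A.y_mem).2 (Mixed.mem_fixedQ.1 ((mem_normalizer_iff.1 hvN y).1 A.y_mem)).2
  obtain ⟨k, rfl⟩ := A.inv_gen v hvP.1 hvu hvy
  exact hvF (eq_one_of_fixed_inverted (odd_orderOf_of_mem A.mixed.odd_Q hvP.1)
    (commute_of_mem_centralizer hvP.2) (inverted_zpow hw k) ▸ one_mem F)

omit A in
/-- The reflections of the Sylow subgroup. -/
theorem refl_spec (h : Frame σ t u₁ u₂ g₁ g₂) (m : ℕ) :
    orderOf ((u₁ * u₂) ^ m * u₁) = 2 ∧ Commute ((u₁ * u₂) ^ m * u₁) t ∧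
      (u₁ * u₂) ^ m * u₁ ≠ t := by
  set ρ := u₁ * u₂ with hρ
  have hρt : Commute ρ t := h.commute₁.mul_left h.commute₂
  have hswap : ρ ^ (m : ℤ) * u₁ = u₁ * ρ ^ (-(m : ℤ)) := by
    rw [hρ, CfsgLib.Signalizer.mul_pair_zpow h.hu₁ h.hu₂, neg_neg]
  have hsq : ρ ^ m * u₁ * (ρ ^ m * u₁) = 1 := by
    rw [← zpow_natCast]
    calc ρ ^ (m : ℤ) * u₁ * (ρ ^ (m : ℤ) * u₁) = ρ ^ (m : ℤ) * u₁ * (u₁ * ρ ^ (-(m : ℤ))) := by rw [hswap]
      _ = ρ ^ (m : ℤ) * (u₁ * u₁) * ρ ^ (-(m : ℤ)) := by group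
      _ = 1 := by rw [involution_sq h.hu₁]; group
  -- `u₁` is not a power of `ρ`, times `t` or not
  have hkey : ∀ s : G, s = 1 ∨ s = t → ρ ^ m * u₁ ≠ s := by
    intro s hs e
    have hst : Commute s ρ := by
      rcases hs with rfl | rfl
      · exact Commute.one_left _
      · exact hρt.symm
    have hu : Commute u₁ ρ := by
      have e' : u₁ = (ρ ^ m)⁻¹ * s := by rw [← e, inv_mul_cancel_left]
      rw [e']
      exact ((Commute.refl ρ).pow_left m).inv_left.mul_left hst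
    have hρρ : ρ * ρ = 1 := by
      have h1 : u₁ * ρ * u₁⁻¹ = ρ⁻¹ := by
        rw [hρ, mul_inv_rev, involution_inv h.hu₂, involution_inv h.hu₁]
        calc u₁ * (u₁ * u₂) * u₁ = u₁ * u₁ * u₂ * u₁ := by group
          _ = u₂ * u₁ := by rw [involution_sq h.hu₁, one_mul]
      rw [conj_eq_of_commute hu] at h1
      exact mul_eq_one_iff_eq_inv.2 h1
    have hdvd : orderOf ρ ∣ 2 := orderOf_dvd_of_pow_eq_one (by rw [pow_two]; exact hρρ)
    rw [hρ, h.ord] at hdvd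
    have hn : σ.n = 1 := by
      have h2 : 2 ^ σ.n ∣ 2 ^ 1 := by rwa [pow_one]
      have := (Nat.pow_dvd_pow_iff_le_right (by norm_num : 1 < 2)).1 h2
      have := σ.pos
      omega
    have hρeq : ρ = t := by
      have := h.pow
      rwa [hn, Nat.sub_self, pow_zero, pow_one] at this
    have hu1 : u₁ = 1 ∨ u₁ = t := by
      have e' : u₁ = (ρ ^ m)⁻¹ * s := by rw [← e, inv_mul_cancel_left]
      rw [hρeq] at e'
      have hp : t ^ m = 1 ∨ t ^ m = t := by
        rcases Nat.even_or_odd m with ⟨q, rfl⟩ | ⟨q, rfl⟩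
        · left; rw [← two_mul, pow_mul, pow_two, involution_sq h.ht, one_pow]
        · right; rw [pow_succ, pow_mul, pow_two, involution_sq h.ht, one_pow, one_mul]
      rcases hp with ep | ep <;> rcases hs with rfl | rfl <;> rw [ep] at e' <;> rw [e']
      · left; group
      · right; group
      · right; rw [mul_one, involution_inv h.ht]
      · left; group
    rcases hu1 with e' | e'
    · exact involution_ne_one h.hu₁ e'
    · exact h.rot₁.ne e'.symm
  exact ⟨orderOf_eq_two_of (hkey 1 (Or.inl rfl)) hsq, (hρt.pow_left m).mul_left h.commute₁,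
    hkey t (Or.inr rfl)⟩

/-- The second reflection acts as the first or trivially. -/
theorem dichotomy (C : Components G) :
    (∀ q ∈ rCore r t, u₂ * q * u₂⁻¹ = u₁ * q * u₁⁻¹) ∨
      (2 ≤ σ.n ∧ Seven (normalizer (zpowers y : Set G)) ∧ ∀ q ∈ rCore r t, Commute q u₂) := by
  classical
  have M := A.mixed
  have h := M.frame
  haveI := Fact.mk M.prime
  set ρ := u₁ * u₂ with hρdef
  have hρt : Commute ρ t := h.commute₁.mul_left h.commute₂
  have hex : ∃ j : ℕ, ∀ q ∈ rCore r t, Commute (ρ ^ 2 ^ j) q :=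
    ⟨σ.n, fun q _ => by rw [← h.ord, hρdef, pow_orderOf_eq_one]; exact Commute.one_left q⟩
  set j := Nat.find hex with hj
  have hspec := Nat.find_spec hex
  rcases Nat.eq_zero_or_pos j with hj0 | hjpos
  · left
    intro q hq
    have h1 := hspec q hq
    rw [← hj, hj0, pow_zero, pow_one] at h1
    have h2 : u₁ * (u₂ * q * u₂⁻¹) * u₁⁻¹ = q := by
      rw [show u₁ * (u₂ * q * u₂⁻¹) * u₁⁻¹ = ρ * q * ρ⁻¹ by rw [hρdef]; group]
      exact conj_eq_of_commute h1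
    calc u₂ * q * u₂⁻¹ = u₁ * (u₁ * (u₂ * q * u₂⁻¹) * u₁⁻¹) * u₁⁻¹ :=
          (conj_conj_involution M.hu₁).symm
      _ = u₁ * q * u₁⁻¹ := by rw [h2]
  right
  set m := 2 ^ (j - 1) with hm
  have h2m : m + m = 2 ^ j := by
    rw [hm, ← two_mul, ← pow_succ', show j - 1 + 1 = j by omega]
  have hnot : ¬ ∀ q ∈ rCore r t, Commute (ρ ^ m) q :=
    Nat.find_min hex (show j - 1 < j by omega)
  -- `ρ ^ (2 m)` acts trivially
  have htriv : ∀ q ∈ rCore r t, ρ ^ m * (ρ ^ m * q * (ρ ^ m)⁻¹) * (ρ ^ m)⁻¹ = q := fun q hq => by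
    rw [show ρ ^ m * (ρ ^ m * q * (ρ ^ m)⁻¹) * (ρ ^ m)⁻¹ = ρ ^ m * ρ ^ m * q * (ρ ^ m * ρ ^ m)⁻¹ by
      group, ← pow_add, h2m]
    exact conj_eq_of_commute (hspec q hq)
  set i := ρ ^ m * u₁ with hi
  obtain ⟨hio, hit, hine⟩ := refl_spec h m
  have hiQ : i ∈ normalizer (rCore r t : Set G) :=
    centralizer_le_normalizer_rCore r t (mem_centralizer_of_commute hit)
  have hui : u₁ * i = (ρ ^ m)⁻¹ := by
    rw [eq_inv_iff_mul_eq_one, hi, show u₁ * (ρ ^ m * u₁) * ρ ^ m = u₁ * ((ρ ^ m * u₁) * (ρ ^ m * u₁)) *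
      u₁⁻¹ by group, show ρ ^ m * u₁ * (ρ ^ m * u₁) = 1 from involution_sq hio]
    group
  have hcomm : ∀ q ∈ rCore r t, u₁ * (i * q * i⁻¹) * u₁⁻¹ = i * (u₁ * q * u₁⁻¹) * i⁻¹ := fun q hq => by
    have e1 : (ρ ^ m)⁻¹ * q * ρ ^ m = ρ ^ m * q * (ρ ^ m)⁻¹ := by
      conv_lhs => rw [← htriv q hq]
      group
    calc u₁ * (i * q * i⁻¹) * u₁⁻¹ = (u₁ * i) * q * (u₁ * i)⁻¹ := by group
      _ = ρ ^ m * q * (ρ ^ m)⁻¹ := by rw [hui, inv_inv, e1]
      _ = i * (u₁ * q * u₁⁻¹) * i⁻¹ := by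
        rw [hi, show ρ ^ m * u₁ * (u₁ * q * u₁⁻¹) * (ρ ^ m * u₁)⁻¹ =
          ρ ^ m * (u₁ * (u₁ * q * u₁⁻¹) * u₁⁻¹) * (ρ ^ m)⁻¹ by group, conj_conj_involution M.hu₁]
  have hiF : i ∈ normalizer (fixedQ r t u₁ : Set G) := mem_normalizer_of_conj fun p hp => by
    refine Mixed.mem_fixedQ.2 ⟨Mixed.conj_mem_Q hit hp.1, (commute_of_conj_eq ?_).symm⟩
    rw [hcomm p hp.1, conj_eq_of_commute (Mixed.mem_fixedQ.1 hp).2.symm]
  -- a contradiction if the fixed points of `i` on `Q` are `Q₁`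
  have hsame : (∀ q ∈ rCore r t, Commute q u₁ ↔ Commute q i) → False := fun hf => hnot fun q hq => by
    refine commute_of_conj_eq ?_
    have h1 := conj_eq_conj_of_fixed_eq M.odd_Q M.hu₁ M.u₁_mem_normalizer hiQ
      (fun p _ => conj_conj_involution hio) hcomm hf (Mixed.conj_mem_Q h.commute₁ hq)
    rw [conj_conj_involution M.hu₁] at h1
    rw [hi] at h1
    calc ρ ^ m * q * (ρ ^ m)⁻¹
        = ρ ^ m * (u₁ * (u₁ * q * u₁⁻¹) * u₁⁻¹) * (ρ ^ m)⁻¹ := by rw [conj_conj_involution M.hu₁]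
      _ = q := by
        rw [show ρ ^ m * (u₁ * (u₁ * q * u₁⁻¹) * u₁⁻¹) * (ρ ^ m)⁻¹ =
          ρ ^ m * u₁ * (u₁ * q * u₁⁻¹) * (ρ ^ m * u₁)⁻¹ by group, h1]
  have hXF := A.fused_line
  have hiX : ∀ e : i * y * i⁻¹ ∈ zpowers y, i ∈ normalizer (zpowers y : Set G) := fun e =>
    mem_normalizer_of_conj (by
      rintro _ ⟨k, rfl⟩
      show i * y ^ k * i⁻¹ ∈ zpowers y
      rw [← conj_zpow]
      exact zpow_mem e k)
  have hwr : IsRElt r w := isRElt_of_mem (isPGroup_rCore r t) A.w_mem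
  rcases fixed_or_inverted Mixed.isPGroup_fixedQ M.ne_two A.cyclic hio hiF with hfix | hinv
  swap
  · -- `i` inverts `Q₁`
    have hy := hinv y A.y_mem
    have hiX' := hiX (by rw [hy]; exact inv_mem (mem_zpowers y))
    have h7 : ¬ Seven (normalizer (zpowers y : Set G)) := fun h7 => by
      have hc := seven_centralizes h7 (M.odd_Q.of_dvd_nat (card_dvd_of_le
        ((zpowers_le.2 A.y_mem).trans Mixed.fixedQ_le))) le_rfl M.ht hXF.mem_t
        (fun p hp => M.commute_t ((zpowers_le.2 A.y_mem) hp).1) hiX' hio (mem_zpowers y)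
      exact A.y_ne (eq_one_of_inv_self (odd_orderOf_of_mem M.odd_Q A.y_mem.1)
        (by rw [← hy, conj_eq_of_commute hc]))
    exact (A.kill i hio hit hinv (hXF.inverts_of_mem_zpowers C.rotInverts C.solvableLocal h7 M.cfixed
      M.prime M.ne_two (rCore_le r t A.w_mem) A.w_mem_line A.w_ne hwr A.w_inv hiX' hio hit hine
      (A.conj_w_mem hit (hcomm w A.w_mem) (Or.inr hy)))).elim
  have hy : i * y * i⁻¹ = y := conj_eq_of_commute (hfix y A.y_mem).symm
  have hiX' := hiX (by rw [hy]; exact mem_zpowers y)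
  -- `j = 1`
  have hj1 : j = 1 := by
    by_contra hj1
    set c := ρ ^ 2 ^ (j - 2) with hc
    have hct : Commute c t := hρt.pow_left _
    have hci : c * u₁ * c⁻¹ = i := by
      have hswap : u₁ * c⁻¹ = c * u₁ := by
        rw [hc, ← inv_pow, ← zpow_natCast, ← zpow_natCast, inv_zpow, ← zpow_neg, hρdef,
          CfsgLib.Signalizer.mul_pair_zpow h.hu₁ h.hu₂, neg_neg]
      rw [mul_assoc, hswap, ← mul_assoc, hc, ← pow_add, ← two_mul, ← pow_succ',
        show j - 2 + 1 = j - 1 by omega, hi, hm]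
    refine hsame fun q hq => ⟨fun hu => hfix q (Mixed.mem_fixedQ.2 ⟨hq, hu⟩), fun hqi => ?_⟩
    have heq : fixedQ r t u₁ = rCore r t ⊓ centralizer ({i} : Set G) := by
      refine eq_of_le_of_card_ge (fun p hp => ⟨hp.1, mem_centralizer_of_commute (hfix p hp)⟩) ?_
      rw [← card_map_of_injective (K := rCore r t ⊓ centralizer ({i} : Set G))
        (f := (MulAut.conj c⁻¹).toMonoidHom) (MulAut.conj c⁻¹).injective]
      refine Nat.le_of_dvd Nat.card_pos (card_dvd_of_le ?_)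
      rintro _ ⟨p, hp, rfl⟩
      refine Mixed.mem_fixedQ.2 ⟨Mixed.conj_mem_Q hct.inv_left hp.1, ?_⟩
      have := (commute_of_mem_centralizer hp.2).map (MulAut.conj c⁻¹).toMonoidHom
      simpa [← hci, mul_assoc] using this
    exact (Mixed.mem_fixedQ.1 (heq.symm ▸ ⟨hq, mem_centralizer_of_commute hqi⟩ :
      q ∈ fixedQ r t u₁)).2
  have hm1 : m = 1 := by rw [hm, hj1, Nat.sub_self, pow_zero]
  have hn : 2 ≤ σ.n := by
    by_contra hn
    have hp := h.pow
    rw [show σ.n - 1 = 0 by omega, pow_zero, pow_one] at hp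
    exact hnot fun q hq => by rw [hm1, pow_one, hρdef, hp]; exact (M.commute_t hq).symm
  rcases fixed_or_inverted ((isPGroup_rCore r t).to_le (zpowers_le.2 A.w_mem)) M.ne_two inferInstance
    hio (show i ∈ normalizer (zpowers w : Set G) from mem_normalizer_of_conj (by
      rintro _ ⟨k, rfl⟩
      show i * w ^ k * i⁻¹ ∈ zpowers w
      rw [← conj_zpow]
      exact zpow_mem (A.conj_w_mem hit (hcomm w A.w_mem) (Or.inl hy)) k)) with hwfix | hwinv
  swap
  · exact (hsame fun q hq => A.fixed_eq_of_inverts hit hcomm hfix (hwinv w (mem_zpowers w)) hq).elim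
  have hiw : i * w * i⁻¹ = w := conj_eq_of_commute (hwfix w (mem_zpowers w)).symm
  have h7 : Seven (normalizer (zpowers y : Set G)) := by
    by_contra h7
    have h1 := hXF.inverts_of_mem_zpowers C.rotInverts C.solvableLocal h7 M.cfixed M.prime M.ne_two
      (rCore_le r t A.w_mem) A.w_mem_line A.w_ne hwr A.w_inv hiX' hio hit hine
      (by rw [hiw]; exact mem_zpowers w)
    rw [hiw] at h1
    exact A.w_ne (eq_one_of_inv_self (odd_orderOf_of_mem M.odd_Q A.w_mem) h1.symm)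
  refine ⟨hn, h7, fun q hq => ?_⟩
  -- `u₂` acts on `Q` as `i`
  have hu₂i : ∀ p ∈ rCore r t, u₂ * p * u₂⁻¹ = i * p * i⁻¹ := fun p hp => by
    have h1 := htriv p hp
    rw [hm1, pow_one] at h1
    calc u₂ * p * u₂⁻¹ = i * (i * (u₂ * p * u₂⁻¹) * i⁻¹) * i⁻¹ := (conj_conj_involution hio).symm
      _ = i * (ρ * (ρ * p * ρ⁻¹) * ρ⁻¹) * i⁻¹ := by rw [hi, hm1, pow_one, hρdef]; group
      _ = i * p * i⁻¹ := by rw [h1]
  have hρQ : ρ ∈ normalizer (rCore r t : Set G) :=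
    centralizer_le_normalizer_rCore r t (mem_centralizer_of_commute hρt)
  have hρc : ∀ p ∈ rCore r t, ρ * p * ρ⁻¹ = u₁ * (i * p * i⁻¹) * u₁⁻¹ := fun p hp => by
    rw [← hu₂i p hp, hρdef]; group
  have hρcomm : ∀ p ∈ rCore r t, u₁ * (ρ * p * ρ⁻¹) * u₁⁻¹ = ρ * (u₁ * p * u₁⁻¹) * ρ⁻¹ := fun p hp => by
    rw [hρc p hp, conj_conj_involution M.hu₁, hρc _ (Mixed.conj_mem_Q h.commute₁ hp),
      ← hcomm p hp, conj_conj_involution M.hu₁]
  have hρfix : ∀ p ∈ fixedQ r t u₁, Commute p ρ := fun p hp => (commute_of_conj_eq (by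
    rw [hρc p hp.1, conj_eq_of_commute (hfix p hp).symm,
      conj_eq_of_commute (Mixed.mem_fixedQ.1 hp).2.symm])).symm
  have hρw : ρ * w * ρ⁻¹ = w⁻¹ := by rw [hρc w A.w_mem, hiw, A.w_inv]
  have h1 := conj_eq_conj_of_fixed_eq M.odd_Q M.hu₁ M.u₁_mem_normalizer hρQ
    (fun p hp => by
      rw [hρc _ (Mixed.conj_mem_Q hρt hp), hρc p hp, ← hcomm (i * p * i⁻¹) (Mixed.conj_mem_Q hit hp),
        conj_conj_involution hio, conj_conj_involution M.hu₁])
    hρcomm (fun p hp => A.fixed_eq_of_inverts hρt hρcomm hρfix hρw hp) hq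
  rw [hρc q hq] at h1
  refine (commute_of_conj_eq ?_).symm
  rw [hu₂i q hq]
  exact mul_left_cancel (mul_right_cancel h1)

end CfsgLib.GW.Dne.Axis
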