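import Cfsg.Agent.Lib.GW.Dne.Mixed.Complement

/-!
# A mixed prime without central fixed points: `|Q : C_Q(y)| = r`
-/

set_option autoImplicit false

namespace CfsgLib.GW.Dne

open Subgroup CfsgLib.GW
open scoped commutatorElement
open CfsgLib.Signalizer (involution_sq involution_inv involution_ne_one orderOf_eq_two_of orderOf_conj)

universe u

variable {G : Type u} [Group G] [Finite G]

omit [Finite G] in
theorem card_mul_relIndex_of_le {H K : Subgroup G} (h : H ≤ K) :
    Nat.card H * H.relIndex K = Nat.card K := by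
  have := relIndex_mul_relIndex ⊥ H K bot_le h
  rwa [relIndex_bot_left, relIndex_bot_left] at this

/-- Two subgroups of the same prime index in an `r`-group. -/
theorem inf_of_card {r : ℕ} [hr : Fact r.Prime] {A B N : Subgroup G} (hN : IsPGroup r N) (hA : A ≤ N)
    (hB : B ≤ N) (hcard : Nat.card B = Nat.card A) (hidx : Nat.card N = r * Nat.card A) (hne : A ≠ B) :
    Nat.card A = r * Nat.card (A ⊓ B : Subgroup G) ∧ N ≤ A ⊔ B := by
  have hBN : B.relIndex N = r := by
    have h := card_mul_relIndex_of_le hB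
    rw [hidx, hcard, mul_comm r] at h
    exact Nat.eq_of_mul_eq_mul_left Nat.card_pos h
  have hAB : ¬ A ≤ B := fun h => hne (eq_of_le_of_card_ge h hcard.le)
  refine ⟨?_, ?_⟩
  · obtain ⟨k, hk⟩ := IsPGroup.iff_card.1 (hN.to_le hA)
    have hd : B.relIndex A ∣ r ^ k := hk ▸ relIndex_dvd_card B A
    obtain ⟨j, -, hj⟩ := (Nat.dvd_prime_pow hr.out).1 hd
    have hle : B.relIndex A ≤ r := hBN ▸ relIndex_le_of_le_right hA (by rw [hBN]; exact hr.out.ne_zero)
    have hne1 : B.relIndex A ≠ 1 := fun e => hAB (relIndex_eq_one.1 e)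
    have hj1 : j = 1 := by
      rcases j with _ | _ | j
      · exact absurd (by rw [hj, pow_zero]) hne1
      · rfl
      · exfalso
        rw [hj] at hle
        have h2 : r ^ 1 < r ^ (j + 1 + 1) := Nat.pow_lt_pow_right hr.out.one_lt (by omega)
        rw [pow_one] at h2
        omega
    have h := card_mul_relIndex_of_le (inf_le_left (a := A) (b := B))
    rw [inf_relIndex_left, hj, hj1, pow_one, mul_comm] at h
    exact h.symm
  · rw [← relIndex_eq_one]
    have h := relIndex_mul_relIndex A (A ⊔ B) N le_sup_left (sup_le hA hB)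
    have hAN : A.relIndex N = r := by
      have h' := card_mul_relIndex_of_le hA
      rw [hidx, mul_comm r] at h'
      exact Nat.eq_of_mul_eq_mul_left Nat.card_pos h'
    rw [hAN] at h
    rcases (Nat.dvd_prime hr.out).1 (Dvd.intro_left _ h) with e | e
    · exact e
    · exfalso
      rw [e] at h
      have h1 : A.relIndex (A ⊔ B) = 1 :=
        Nat.eq_of_mul_eq_mul_right hr.out.pos (h.trans (one_mul r).symm)
      have hBA : B ≤ A := le_sup_right.trans (relIndex_eq_one.1 h1)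
      exact hne (eq_of_le_of_card_ge hBA hcard.ge).symm

/-- A trivially intersecting pair injects into a common overgroup. -/
theorem card_mul_card_le {A B C : Subgroup G} (hA : A ≤ C) (hB : B ≤ C) (h : A ⊓ B = ⊥) :
    Nat.card A * Nat.card B ≤ Nat.card C := by
  rw [← Nat.card_prod]
  refine Nat.card_le_card_of_injective (fun p => (⟨(p.1 : G) * p.2, C.mul_mem (hA p.1.2) (hB p.2.2)⟩ : C))
    fun p q e => ?_
  have e' : (p.1 : G) * p.2 = q.1 * q.2 := congrArg Subtype.val e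
  have h1 : (q.1 : G)⁻¹ * p.1 = q.2 * (p.2 : G)⁻¹ := by
    rw [eq_mul_inv_iff_mul_eq, mul_assoc, e', inv_mul_cancel_left]
  have h2 : (q.1 : G)⁻¹ * p.1 ∈ (⊥ : Subgroup G) :=
    h ▸ ⟨A.mul_mem (A.inv_mem q.1.2) p.1.2, h1 ▸ B.mul_mem q.2.2 (B.inv_mem p.2.2)⟩
  rw [mem_bot, inv_mul_eq_one] at h2
  have h3 : (p.2 : G) = q.2 := mul_left_cancel (h2 ▸ e')
  exact Prod.ext (Subtype.ext h2.symm) (Subtype.ext h3)

/-- `C_Q(y)`. -/
noncomputable def axisQ (r : ℕ) (t y : G) : Subgroup G := rCore r t ⊓ centralizer ({y} : Set G)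

namespace Axis

variable {σ : Hyp G} {t u₁ u₂ g₁ g₂ : G} {r : ℕ} {y w : G} (A : Axis σ t u₁ u₂ g₁ g₂ r y w)
include A

theorem fixedQ_le_axisQ : fixedQ r t u₁ ≤ axisQ r t y := fun _ hq =>
  ⟨hq.1, mem_centralizer_of_commute (A.fixed_comm hq A.y_mem)⟩

theorem y_mem_axisQ : y ∈ axisQ r t y := A.fixedQ_le_axisQ A.y_mem

theorem w_mem_axisQ : w ∈ axisQ r t y := ⟨A.w_mem, mem_centralizer_of_commute A.commute_yw.symm⟩

theorem axisQ_comm {a b : G} (ha : a ∈ axisQ r t y) (hb : b ∈ axisQ r t y) : Commute a b := by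
  obtain ⟨c, hc, k, rfl⟩ := A.exists_mul_of_commute ha.1 (commute_of_mem_centralizer ha.2)
  obtain ⟨d, hd, l, rfl⟩ := A.exists_mul_of_commute hb.1 (commute_of_mem_centralizer hb.2)
  exact ((A.fixed_comm hc hd).mul_right ((A.w_comm c hc).zpow_right l)).mul_left
    (((A.w_comm d hd).zpow_right k).symm.mul_right (Commute.zpow_zpow (Commute.refl w) k l))

theorem inverted_zpow_w (k : ℤ) : u₁ * w ^ k * u₁⁻¹ = (w ^ k)⁻¹ := inverted_zpow A.w_inv k

theorem eq_one_of_fixed_zpow {c : G} (hc : c ∈ fixedQ r t u₁) {k : ℤ} (h : c = w ^ k) : c = 1 :=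
  eq_one_of_fixed_inverted (odd_orderOf_of_mem A.mixed.odd_Q hc.1) (Mixed.mem_fixedQ.1 hc).2
    (h ▸ A.inverted_zpow_w k)

/-- An element of `Q` outside `C_Q(y)` centralises no fixed point but `1`. -/
theorem fixed_eq_one_of_commute {q c : G} (hqy : ¬ Commute q y) (hc : c ∈ fixedQ r t u₁)
    (hqc : Commute q c) : c = 1 := by
  haveI := Fact.mk A.mixed.prime
  by_contra hc1
  obtain ⟨k, hk⟩ := (IsPGroup.iff_orderOf.1 Mixed.isPGroup_fixedQ) ⟨c, hc⟩
  rw [Subgroup.orderOf_mk] at hk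
  rcases k with _ | k
  · exact hc1 (orderOf_eq_one_iff.1 hk)
  have ho : orderOf (c ^ r ^ k) = r := by
    rw [orderOf_pow_of_dvd (pow_ne_zero _ A.mixed.prime.ne_zero) (hk ▸ pow_dvd_pow r k.le_succ), hk,
      pow_succ, Nat.mul_div_cancel_left _ (pow_pos A.mixed.prime.pos k)]
  obtain ⟨l, hl⟩ := mem_zpowers_of_pow_eq_one A.cyclic A.mixed.prime (pow_mem hc _) ho A.y_mem
    (by rw [← A.y_order, pow_orderOf_eq_one])
  exact hqy (hl ▸ (hqc.pow_right _).zpow_right l)

variable {x : G} (hx : x ∈ zpowers w) (hxo : orderOf x = r) (hxU : ∀ h ∈ U t, Commute h x)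
include hx hxo hxU

/-- An element normalising `C_Q(y)` moves `y` along `⟨x⟩`. -/
theorem commutator_mem_line {g : G} (hg : g ∈ rCore r t)
    (hgN : g ∈ normalizer (axisQ r t y : Set G)) : g * y * g⁻¹ * y⁻¹ ∈ zpowers x := by
  have M := A.mixed
  haveI := Fact.mk M.prime
  have he : g * y * g⁻¹ ∈ axisQ r t y := (mem_normalizer_iff.1 hgN y).1 A.y_mem_axisQ
  obtain ⟨c, hc, k, e⟩ := A.exists_mul_of_commute he.1 (commute_of_mem_centralizer he.2)
  have her : c ^ r * (w ^ k) ^ r = 1 := by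
    rw [← ((A.w_comm c hc).zpow_right k).mul_pow, ← e, conj_pow, ← A.y_order, pow_orderOf_eq_one,
      mul_one, mul_inv_cancel]
  have hcr : c ^ r = 1 := A.eq_one_of_fixed_zpow (pow_mem hc r) (k := -(k * r))
    (by rw [zpow_neg, zpow_mul, zpow_natCast]; exact eq_inv_of_mul_eq_one_left her)
  obtain ⟨a, rfl⟩ := mem_zpowers_of_pow_eq_one A.cyclic M.prime A.y_mem A.y_order hc hcr
  have hwk : w ^ k ∈ zpowers x := by
    refine mem_zpowers_of_pow_eq_one inferInstance M.prime hx hxo (zpow_mem (mem_zpowers w) k) ?_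
    rwa [hcr, one_mul] at her
  obtain ⟨b, hb⟩ := hwk
  have e' : g * y * g⁻¹ = y ^ a * x ^ b := by rw [e]; exact congrArg (y ^ a * ·) hb.symm
  have hxy : Commute x y := (hxU y (rCore_le r t A.y_mem.1)).symm
  have hgx : g * x * g⁻¹ = x := conj_eq_of_commute (hxU g (rCore_le r t hg))
  have hiter : ∀ i : ℕ, ∃ d : ℤ, g ^ i * y * (g ^ i)⁻¹ = y ^ (a ^ i) * x ^ d := by
    intro i
    induction i with
    | zero => exact ⟨0, by simp⟩
    | succ i ih =>
      obtain ⟨d, hd⟩ := ih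
      refine ⟨b * a ^ i + d, ?_⟩
      calc g ^ (i + 1) * y * (g ^ (i + 1))⁻¹ = g * (g ^ i * y * (g ^ i)⁻¹) * g⁻¹ := by
            rw [pow_succ', mul_inv_rev]; simp only [mul_assoc]
        _ = (g * y * g⁻¹) ^ (a ^ i) * (g * x * g⁻¹) ^ d := by
            rw [hd, conj_zpow, conj_zpow]; group
        _ = y ^ (a ^ (i + 1)) * x ^ (b * a ^ i + d) := by
            rw [hgx, e', (hxy.symm.zpow_zpow a b).mul_zpow, ← zpow_mul, ← zpow_mul, mul_assoc,
              ← zpow_add, ← pow_succ']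
  obtain ⟨f, hf⟩ := isRElt_of_mem (isPGroup_rCore r t) hg
  obtain ⟨d, hd⟩ := hiter (r ^ f)
  rw [hf, one_mul, inv_one, mul_one] at hd
  obtain ⟨l, hl⟩ := hx
  have hone : y ^ (a ^ r ^ f - 1) = 1 :=
    A.eq_one_of_fixed_zpow (zpow_mem A.y_mem _) (k := l * (-d)) (by
      rw [zpow_mul, show w ^ l = x from hl, zpow_neg, zpow_sub_one]
      conv_lhs => arg 2; rw [hd]
      rw [mul_inv_rev, ← mul_assoc, ((hxy.symm.zpow_zpow (a ^ r ^ f) d).inv_right).eq]
      group)
  have ha : ((a - 1 : ℤ) : ZMod r) = 0 := by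
    have h1 := orderOf_dvd_iff_zpow_eq_one.2 hone
    rw [A.y_order, ← ZMod.intCast_zmod_eq_zero_iff_dvd, Int.cast_sub, Int.cast_pow, ZMod.pow_card_pow] at h1
    rwa [Int.cast_sub]
  rw [ZMod.intCast_zmod_eq_zero_iff_dvd, ← A.y_order, orderOf_dvd_iff_zpow_eq_one, zpow_sub_one,
    mul_inv_eq_one] at ha
  refine ⟨b, ?_⟩
  show x ^ b = g * y * g⁻¹ * y⁻¹
  rw [e', ha, (hxy.zpow_left b).symm.eq, mul_inv_cancel_right]

theorem card_normalizer_axisQ (hne : axisQ r t y < rCore r t) :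
    Nat.card (rCore r t ⊓ normalizer (axisQ r t y : Set G) : Subgroup G) =
      r * Nat.card (axisQ r t y) := by
  classical
  have M := A.mixed
  haveI := Fact.mk M.prime
  set N := rCore r t ⊓ normalizer (axisQ r t y : Set G) with hN
  let φ : N →* zpowers x :=
    { toFun := fun g => ⟨_, A.commutator_mem_line hx hxo hxU g.2.1 g.2.2⟩
      map_one' := Subtype.ext (by simp)
      map_mul' := fun g k => Subtype.ext (by
        show ((g : G) * k) * y * ((g : G) * k)⁻¹ * y⁻¹ =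
          ((g : G) * y * (g : G)⁻¹ * y⁻¹) * ((k : G) * y * (k : G)⁻¹ * y⁻¹)
        obtain ⟨b, hb⟩ := A.commutator_mem_line hx hxo hxU k.2.1 k.2.2
        have hb' : x ^ b = (k : G) * y * (k : G)⁻¹ * y⁻¹ := hb
        have hgb : Commute (g : G) (x ^ b) := (hxU _ (rCore_le r t g.2.1)).zpow_right b
        have hcom : Commute ((g : G) * y * (g : G)⁻¹ * y⁻¹) (x ^ b) :=
          (((hgb.mul_left ((hxU y (rCore_le r t A.y_mem.1)).zpow_right b)).mul_left
            hgb.inv_left).mul_left ((hxU y (rCore_le r t A.y_mem.1)).zpow_right b).inv_left)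
        rw [← hb', hcom.eq]
        calc ((g : G) * k) * y * ((g : G) * k)⁻¹ * y⁻¹
            = (g : G) * ((k : G) * y * (k : G)⁻¹ * y⁻¹) * (g : G)⁻¹ * ((g : G) * y * (g : G)⁻¹ * y⁻¹) := by
              group
          _ = _ := by rw [← hb', conj_eq_of_commute hgb]) }
  have hker : φ.ker = (axisQ r t y).subgroupOf N := by
    ext g
    rw [MonoidHom.mem_ker, mem_subgroupOf]
    constructor
    · intro hg
      have h1 : (g : G) * y * (g : G)⁻¹ * y⁻¹ = 1 := congrArg Subtype.val hg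
      rw [mul_inv_eq_one] at h1
      exact ⟨g.2.1, mem_centralizer_of_commute (commute_of_conj_eq h1)⟩
    · intro hg
      refine Subtype.ext ?_
      show (g : G) * y * (g : G)⁻¹ * y⁻¹ = 1
      rw [conj_eq_of_commute (commute_of_mem_centralizer hg.2), mul_inv_cancel]
  have hle : axisQ r t y ≤ N := le_inf inf_le_left le_normalizer
  have hidx : (axisQ r t y).relIndex N ∣ r := by
    show ((axisQ r t y).subgroupOf N).index ∣ r
    rw [← hker, index_ker]
    exact (card_subgroup_dvd_card _).trans (by rw [Nat.card_zpowers, hxo])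
  have hne1 : (axisQ r t y).relIndex N ≠ 1 := fun e => by
    haveI : Group.IsNilpotent (rCore r t) := (isPGroup_rCore r t).isNilpotent
    have hlt : (axisQ r t y).subgroupOf (rCore r t) < ⊤ :=
      lt_top_iff_ne_top.2 fun e' => hne.not_ge (subgroupOf_eq_top.1 e')
    obtain ⟨q, hqN, hqA⟩ := SetLike.exists_of_lt (Group.normalizerCondition_of_isNilpotent _ hlt)
    have hqN' : (q : G) ∈ normalizer (axisQ r t y : Set G) := mem_normalizer_of_conj fun a ha =>
      (mem_normalizer_iff.1 hqN ⟨a, hne.le ha⟩).1 ha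
    exact hqA (relIndex_eq_one.1 e ⟨q.2, hqN'⟩)
  rw [← card_mul_relIndex_of_le hle, ((Nat.dvd_prime M.prime).1 hidx).resolve_left hne1, mul_comm]

variable (hZ : ∀ z ∈ rCore r t, (∀ q ∈ rCore r t, Commute q z) → z ∈ zpowers w)
include hZ

theorem axisQ_lt : axisQ r t y < rCore r t := by
  refine lt_of_le_of_ne inf_le_left fun e => A.y_ne ?_
  obtain ⟨k, hk⟩ := hZ y A.y_mem.1 fun q hq => commute_of_mem_centralizer (e.symm ▸ hq : q ∈ axisQ r t y).2
  exact A.eq_one_of_fixed_zpow A.y_mem hk.symm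

/-- `|Q : C_Q(y)| = r`. -/
theorem card_rCore (hL : NoFixedLinear G) (hu₂ : Commute u₂ y) :
    Nat.card (rCore r t) = r * Nat.card (axisQ r t y) := by
  classical
  have M := A.mixed
  haveI := Fact.mk M.prime
  have hlt := A.axisQ_lt hx hxo hxU hZ
  set Ay := axisQ r t y with hAy
  set N := rCore r t ⊓ normalizer (Ay : Set G) with hN
  have hcardN := A.card_normalizer_axisQ hx hxo hxU hlt
  rw [← hAy, ← hN] at hcardN
  by_contra hno
  have hNlt : N < rCore r t := lt_of_le_of_ne inf_le_left fun e => hno (by rw [← e]; exact hcardN)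
  have hu₁Ay : u₁ ∈ normalizer (Ay : Set G) := mem_normalizer_of_conj fun a ha => by
    refine ⟨Mixed.conj_mem_Q M.frame.commute₁ ha.1, mem_centralizer_of_commute ?_⟩
    have := (commute_of_mem_centralizer ha.2).map (MulAut.conj u₁).toMonoidHom
    simpa [conj_eq_of_commute (Mixed.mem_fixedQ.1 A.y_mem).2.symm] using this
  have hu₁N : u₁ ∈ normalizer (N : Set G) := mem_normalizer_of_conj fun a ha =>
    ⟨Mixed.conj_mem_Q M.frame.commute₁ ha.1, (normalizer (Ay : Set G)).mul_mem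
      ((normalizer (Ay : Set G)).mul_mem hu₁Ay ha.2) ((normalizer (Ay : Set G)).inv_mem hu₁Ay)⟩
  -- an inverted element of `N` outside `C_Q(y)`
  obtain ⟨v, hv, hvA, hvN, hvu⟩ := exists_inverted_normalizer (isPGroup_rCore r t) M.ne_two M.hu₁
    M.u₁_mem_normalizer hu₁Ay hlt fun q hq hqu => A.fixedQ_le_axisQ (Mixed.mem_fixedQ.2 ⟨hq, hqu⟩)
  have hvy : ¬ Commute v y := fun h => hvA ⟨hv, mem_centralizer_of_commute h⟩
  -- a conjugate of `C_Q(y)` in `N`
  obtain ⟨h, hh, hhN, hhNN, -⟩ := exists_inverted_normalizer (isPGroup_rCore r t) M.ne_two M.hu₁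
    M.u₁_mem_normalizer hu₁N hNlt
    fun q hq hqu => ⟨hq, le_normalizer (A.fixedQ_le_axisQ (Mixed.mem_fixedQ.2 ⟨hq, hqu⟩))⟩
  set A' := Ay.map (MulAut.conj h).toMonoidHom with hA'
  have hA'N : A' ≤ N := by
    rintro _ ⟨a, ha, rfl⟩
    exact (mem_normalizer_iff.1 hhNN a).1 ⟨ha.1, le_normalizer ha⟩
  have hne : Ay ≠ A' := fun e => hhN ⟨hh, mem_normalizer_of_conj fun a ha => e.symm ▸ ⟨a, ha, rfl⟩⟩
  obtain ⟨hD, hsup⟩ := inf_of_card (hN ▸ (isPGroup_rCore r t).to_le inf_le_left)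
    (le_inf inf_le_left le_normalizer : Ay ≤ N) hA'N
    (card_map_of_injective (MulAut.conj h).injective) hcardN hne
  have hDc : ∀ d ∈ Ay ⊓ A', ∀ n ∈ N, Commute n d := fun d hd => by
    have h1 : Ay ⊔ A' ≤ centralizer ({d} : Set G) := by
      refine sup_le (fun a ha => mem_centralizer_of_commute (A.axisQ_comm ha hd.1)) ?_
      rintro _ ⟨a, ha, rfl⟩
      obtain ⟨b, hb, eb⟩ := hd.2
      rw [← eb]
      exact mem_centralizer_of_commute ((A.axisQ_comm ha hb).map (MulAut.conj h).toMonoidHom)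
    exact fun n hn => commute_of_mem_centralizer (h1 (hsup hn))
  have hFD : fixedQ r t u₁ ⊓ (Ay ⊓ A') = ⊥ := eq_bot_iff.2 fun c hc =>
    mem_bot.2 (A.fixed_eq_one_of_commute hvy hc.1 (hDc c hc.2 v ⟨hv, hvN⟩))
  have hF : fixedQ r t u₁ = zpowers y := by
    refine (eq_of_le_of_card_ge (zpowers_le.2 A.y_mem) ?_).symm
    rw [Nat.card_zpowers, A.y_order]
    have h1 := card_mul_card_le A.fixedQ_le_axisQ (inf_le_left (b := A')) hFD
    rw [hD] at h1
    exact Nat.le_of_mul_le_mul_right h1 Nat.card_pos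
  -- the subgroup generated by the inverted elements
  set B : Subgroup G := closure {q : G | q ∈ rCore r t ∧ u₁ * q * u₁⁻¹ = q⁻¹} with hB
  have hgen : ∀ q ∈ rCore r t, u₁ * q * u₁⁻¹ = q⁻¹ → q ∈ B := fun q hq hqu => subset_closure ⟨hq, hqu⟩
  have hBQ : B ≤ rCore r t := (closure_le _).2 fun q hq => hq.1
  have hQB : rCore r t ≤ normalizer (B : Set G) := by
    intro q hq
    obtain ⟨c, hc, i, hi, hiu, rfl⟩ := M.decompQ hq
    refine mul_mem (mem_normalizer_of_conj fun b hb => ?_) (le_normalizer (hgen i hi hiu))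
    have h1 : B.map (MulAut.conj c).toMonoidHom ≤ B := by
      rw [hB, MonoidHom.map_closure, closure_le]
      rintro _ ⟨s, ⟨hs, hsu⟩, rfl⟩
      refine hgen _ (Mixed.conj_mem_Q (M.commute_t hc.1) hs) ?_
      show u₁ * (c * s * c⁻¹) * u₁⁻¹ = (c * s * c⁻¹)⁻¹
      rw [show u₁ * (c * s * c⁻¹) * u₁⁻¹ = (u₁ * c * u₁⁻¹) * (u₁ * s * u₁⁻¹) * (u₁ * c * u₁⁻¹)⁻¹ by
        group, conj_eq_of_commute (Mixed.mem_fixedQ.1 hc).2.symm, hsu]
      group
    exact h1 ⟨b, hb, rfl⟩
  by_cases hyB : y ∈ B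
  · -- the inverted elements generate `Q`
    have hQle : rCore r t ≤ B := fun q hq => by
      obtain ⟨c, hc, i, hi, hiu, rfl⟩ := M.decompQ hq
      rw [hF] at hc
      exact B.mul_mem (zpowers_le.2 hyB hc) (hgen i hi hiu)
    set Z := center (rCore r t) with hZdef
    haveI : Nontrivial (rCore r t ⧸ Z) := QuotientGroup.nontrivial_iff.2 fun e => hlt.ne
      (le_antisymm inf_le_left fun q hq => ⟨hq, mem_centralizer_of_commute
        (congrArg Subtype.val (mem_center_iff.1 (e ▸ mem_top _ : (⟨y, A.y_mem.1⟩ : rCore r t) ∈ Z) ⟨q, hq⟩))⟩)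
    haveI := ((isPGroup_rCore r t).to_quotient Z).center_nontrivial
    set K : Subgroup (rCore r t) := (center (rCore r t ⧸ Z)).comap (QuotientGroup.mk' Z) with hK
    have hKmem : ∀ q : rCore r t, q ∈ K ↔
        ∀ p ∈ rCore r t, ∀ p' ∈ rCore r t, Commute ((q : G) * p * (q : G)⁻¹ * p⁻¹) p' := by
      intro q
      rw [hK, mem_comap, mem_center_iff]
      constructor
      · intro hq p hp p' hp'
        have h1 : QuotientGroup.mk' Z (q * ⟨p, hp⟩ * q⁻¹ * ⟨p, hp⟩⁻¹) = 1 := by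
          rw [map_mul, map_mul, map_mul, map_inv, map_inv, ← hq, mul_inv_cancel_right, mul_inv_cancel]
        have h2 := (QuotientGroup.eq_one_iff _).1 h1
        exact (congrArg Subtype.val (mem_center_iff.1 h2 ⟨p', hp'⟩) : _).symm
      · intro hq p
        obtain ⟨⟨p, hp⟩, rfl⟩ := QuotientGroup.mk'_surjective Z p
        have h1 : QuotientGroup.mk' Z (q * ⟨p, hp⟩ * q⁻¹ * ⟨p, hp⟩⁻¹) = 1 :=
          (QuotientGroup.eq_one_iff _).2 (mem_center_iff.2 fun p' => Subtype.ext
            (hq p hp p' p'.2).symm.eq)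
        rw [map_mul, map_mul, map_mul, map_inv, map_inv, mul_inv_eq_one, mul_inv_eq_iff_eq_mul] at h1
        exact h1.symm
    obtain ⟨⟨q₀, hq₀c⟩, hq₀1⟩ := exists_ne (1 : center (rCore r t ⧸ Z))
    obtain ⟨q, rfl⟩ := QuotientGroup.mk'_surjective Z q₀
    have hqK : q ∈ K := hq₀c
    have hqZ : q ∉ Z := fun h => hq₀1 (Subtype.ext ((QuotientGroup.eq_one_iff q).2 h))
    set KG := K.map (rCore r t).subtype with hKG
    have hu₁K : u₁ ∈ normalizer (KG : Set G) := mem_normalizer_of_conj fun a ha => by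
      obtain ⟨a, haK, rfl⟩ := ha
      refine ⟨⟨_, Mixed.conj_mem_Q M.frame.commute₁ a.2⟩, (hKmem _).2 fun p hp p' hp' => ?_, rfl⟩
      have hpre : ∀ z ∈ rCore r t, u₁⁻¹ * z * u₁ ∈ rCore r t := fun z hz => by
        have := Mixed.conj_mem_Q M.frame.commute₁.inv_left hz
        rwa [inv_inv] at this
      have := ((hKmem a).1 haK _ (hpre p hp) _ (hpre p' hp')).map (MulAut.conj u₁).toMonoidHom
      simpa [mul_assoc] using this
    obtain ⟨c, hc, i, hi, hcu, hiu, e⟩ := decomp (M.odd_Q.of_dvd_nat (card_dvd_of_le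
      (map_subtype_le K))) M.hu₁ hu₁K (show (q : G) ∈ KG from mem_map_of_mem _ hqK)
    obtain ⟨c, hcK, rfl⟩ := hc
    obtain ⟨i, hiK, rfl⟩ := hi
    have hiC : ∀ j ∈ rCore r t, u₁ * j * u₁⁻¹ = j⁻¹ → Commute (i : G) j := by
      intro j hj hju
      set z := (i : G) * j * (i : G)⁻¹ * j⁻¹ with hz
      have hzQ : z ∈ rCore r t := (rCore r t).mul_mem
        ((rCore r t).mul_mem ((rCore r t).mul_mem i.2 hj) ((rCore r t).inv_mem i.2)) ((rCore r t).inv_mem hj)
      have hzc : ∀ p ∈ rCore r t, Commute p z := fun p hp => ((hKmem i).1 hiK j hj p hp).symm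
      obtain ⟨k, hk⟩ := hZ z hzQ hzc
      have hzu : u₁ * z * u₁⁻¹ = z⁻¹ := hk ▸ A.inverted_zpow_w k
      have hzu' : u₁ * z * u₁⁻¹ = z := by
        calc u₁ * z * u₁⁻¹ = (u₁ * (i : G) * u₁⁻¹) * (u₁ * j * u₁⁻¹) * (u₁ * (i : G) * u₁⁻¹)⁻¹ *
              (u₁ * j * u₁⁻¹)⁻¹ := by rw [hz]; group
          _ = (i : G)⁻¹ * j⁻¹ * (z * j * i) := by
            rw [show u₁ * (i : G) * u₁⁻¹ = (i : G)⁻¹ from hiu, hju, hz]; group
          _ = (i : G)⁻¹ * j⁻¹ * (j * i * z) := by
            rw [((hzc _ ((rCore r t).mul_mem hj i.2))).eq, mul_assoc z]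
          _ = z := by group
      have hz1 : z = 1 := eq_one_of_inv_self (odd_orderOf_of_mem M.odd_Q hzQ) (hzu.symm.trans hzu')
      rw [hz, mul_inv_eq_one] at hz1
      exact commute_of_conj_eq hz1
    have hiall : ∀ p ∈ rCore r t, Commute (i : G) p := fun p hp => by
      have h1 : B ≤ centralizer ({(i : G)} : Set G) :=
        (closure_le _).2 fun s hs => mem_centralizer_of_commute (hiC s hs.1 hs.2).symm
      exact (commute_of_mem_centralizer (h1 (hQle hp))).symm
    have hc1 : (c : G) ≠ 1 := fun e1 => hqZ (mem_center_iff.2 fun p => Subtype.ext (by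
      show (p : G) * q = q * p
      rw [e, show ((rCore r t).subtype c) = (c : G) from rfl, e1, one_mul]
      exact ((hiall p p.2).eq).symm))
    have hyK : (⟨y, A.y_mem.1⟩ : rCore r t) ∈ K := by
      have hcF : (c : G) ∈ zpowers y := hF ▸ Mixed.mem_fixedQ.2 ⟨c.2, hcu⟩
      have heq : zpowers (c : G) = zpowers y := eq_of_le_of_card_ge (zpowers_le.2 hcF) (by
        rw [Nat.card_zpowers, Nat.card_zpowers, A.y_order]
        rcases (Nat.dvd_prime M.prime).1 (A.y_order ▸ orderOf_dvd_of_mem_zpowers hcF) with h | h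
        · exact absurd (orderOf_eq_one_iff.1 h) hc1
        · exact h.ge)
      obtain ⟨l, hl⟩ : y ∈ zpowers (c : G) := heq ▸ mem_zpowers y
      rw [show (⟨y, A.y_mem.1⟩ : rCore r t) = c ^ l from Subtype.ext (by rw [coe_zpow]; exact hl.symm)]
      exact K.zpow_mem hcK l
    -- so all of `Q` normalises `C_Q(y)`
    refine hNlt.not_ge fun g hg => ⟨hg, mem_normalizer_of_conj fun a ha => ?_⟩
    have hga := Mixed.conj_mem_Q (M.commute_t hg) ha.1
    refine ⟨hga, mem_centralizer_of_commute ?_⟩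
    have h1 : Commute (g * a * g⁻¹) (g * y * g⁻¹) :=
      (commute_of_mem_centralizer ha.2).map (MulAut.conj g).toMonoidHom
    have h2 : Commute (g * a * g⁻¹) (y * g * y⁻¹ * g⁻¹) :=
      ((hKmem _).1 hyK g hg _ hga).symm
    have := h2.mul_right h1
    rwa [show y * g * y⁻¹ * g⁻¹ * (g * y * g⁻¹) = y by group] at this
  · -- an inverted abelian subgroup of index `r`
    have hdisj : ∀ c ∈ zpowers y, c ∈ B → c = 1 := by
      intro c hc hcB
      by_contra hc1
      rcases (Nat.dvd_prime M.prime).1 (A.y_order ▸ orderOf_dvd_of_mem_zpowers hc) with h | h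
      · exact hc1 (orderOf_eq_one_iff.1 h)
      · have heq : zpowers c = zpowers y :=
          eq_of_le_of_card_ge (zpowers_le.2 hc) (by rw [Nat.card_zpowers, Nat.card_zpowers, A.y_order, h])
        exact hyB (zpowers_le.2 hcB (heq ▸ mem_zpowers y))
    have hBi : ∀ b ∈ B, u₁ * b * u₁⁻¹ = b⁻¹ := by
      intro b hb
      obtain ⟨c, hc, i, hi, hiu, rfl⟩ := M.decompQ (hBQ hb)
      have hcB : c ∈ B := by
        have := B.mul_mem hb (B.inv_mem (hgen i hi hiu))
        rwa [mul_inv_cancel_right] at this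
      rw [hdisj c (hF ▸ hc) hcB, one_mul]
      exact hiu
    have hcomm : ∀ a ∈ B, ∀ b ∈ B, Commute a b := fun a ha b hb =>
      CfsgLib.PGroups.BSW.commute_of_inverted B hBi ha hb
    have hQcard : Nat.card (rCore r t) = r * Nat.card B := by
      have er : r * Nat.card B = Nat.card (zpowers y) * Nat.card B := by
        rw [Nat.card_zpowers, A.y_order]
      refine le_antisymm ?_ ?_
      · rw [er, ← Nat.card_prod]
        refine Nat.card_le_card_of_surjective
          (fun p => (⟨(p.1 : G) * p.2, (rCore r t).mul_mem (zpowers_le.2 A.y_mem.1 p.1.2) (hBQ p.2.2)⟩ :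
            rCore r t)) fun q => ?_
        obtain ⟨c, hc, i, hi, hiu, e⟩ := M.decompQ q.2
        exact ⟨(⟨c, hF ▸ hc⟩, ⟨i, hgen i hi hiu⟩), Subtype.ext e.symm⟩
      · rw [er]
        exact card_mul_card_le (zpowers_le.2 A.y_mem.1) hBQ
          (eq_bot_iff.2 fun c hc => mem_bot.2 (hdisj c hc.1 hc.2))
    have hAle : r * orderOf w ≤ Nat.card Ay := by
      rw [← A.y_order, ← Nat.card_zpowers, ← Nat.card_zpowers (a := w)]
      exact card_mul_card_le (zpowers_le.2 A.y_mem_axisQ) (zpowers_le.2 A.w_mem_axisQ)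
        (eq_bot_iff.2 fun c hc => by
          obtain ⟨k, hk⟩ := hc.2
          exact mem_bot.2 (A.eq_one_of_fixed_zpow (zpowers_le.2 A.y_mem hc.1) hk.symm))
    have hNQ : Nat.card N < Nat.card (rCore r t) :=
      lt_of_le_of_ne (card_le_of_le hNlt.le) fun e => hNlt.ne (eq_of_le_of_card_ge hNlt.le e.ge)
    have hBn : centralizer ({t} : Set G) ≤ normalizer (B : Set G) := by
      intro c hc
      have hct := commute_of_mem_centralizer hc
      refine mem_normalizer_of_conj fun b hb => ?_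
      by_contra hcb
      set B' := B.map (MulAut.conj c).toMonoidHom with hB'
      have hB'Q : B' ≤ rCore r t := by
        rintro _ ⟨a, ha, rfl⟩
        exact Mixed.conj_mem_Q hct (hBQ ha)
      obtain ⟨h1, h2⟩ := inf_of_card (isPGroup_rCore r t) hBQ hB'Q
        (card_map_of_injective (MulAut.conj c).injective) hQcard
        fun e => hcb (e.symm ▸ ⟨b, hb, rfl⟩ : c * b * c⁻¹ ∈ B)
      have h3 : B ⊓ B' ≤ zpowers w := fun d hd => by
        have hle : B ⊔ B' ≤ centralizer ({d} : Set G) := by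
          refine sup_le (fun a ha => mem_centralizer_of_commute (hcomm a ha d hd.1)) ?_
          rintro _ ⟨a, ha, rfl⟩
          obtain ⟨d', hd', rfl⟩ := hd.2
          exact mem_centralizer_of_commute ((hcomm a ha d' hd').map (MulAut.conj c).toMonoidHom)
        exact hZ d (hBQ hd.1) fun p hp => commute_of_mem_centralizer (hle (h2 hp))
      have h4 : Nat.card (B ⊓ B' : Subgroup G) ≤ orderOf w :=
        Nat.card_zpowers w ▸ card_le_of_le h3
      have h5 : r * Nat.card B ≤ r * Nat.card Ay := by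
        refine Nat.mul_le_mul_left r (le_trans ?_ hAle)
        rw [h1]
        exact Nat.mul_le_mul_left r h4
      rw [← hQcard, ← hcardN] at h5
      omega
    refine A.false_of_inverted_complement hL B hBQ hBn hBi hF hgen hu₂ ⟨v, hgen v hv hvu, hvy, ?_⟩
    have h1 := A.commutator_mem_line hx hxo hxU hv hvN
    obtain ⟨k, hk⟩ := h1
    have e1 : y * v * y⁻¹ * v⁻¹ = (v * y * v⁻¹ * y⁻¹)⁻¹ := by group
    rw [e1, ← hk]
    exact ((hxU y (rCore_le r t A.y_mem.1)).zpow_right k).symm.inv_left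

end Axis

end CfsgLib.GW.Dne
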