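import Cfsg.Agent.Lib.GW.Dne.Mixed.Axis

/-!
# No inverted subgroup of index `r` normal in `C(t)`

If `B` is such a subgroup, `h ↦ [h, b]` for a suitable `b ∈ B` is a homomorphism of `O(C(t))`
fixed by `u₁`, hence inverted by `u₂`; but it is not trivial at `y`.
-/

set_option autoImplicit false

namespace CfsgLib.GW.Dne

open Subgroup CfsgLib.GW

universe u

variable {G : Type u} [Group G] [Finite G]

theorem Axis.false_of_inverted_abelian {σ : Hyp G} {t u₁ u₂ g₁ g₂ : G} {r : ℕ} {y w : G}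
    (A : Axis σ t u₁ u₂ g₁ g₂ r y w) (hL : NoFixedLinear G) (B : Subgroup G) (hB : B ≤ rCore r t)
    (hBn : centralizer ({t} : Set G) ≤ normalizer (B : Set G))
    (hBi : ∀ b ∈ B, u₁ * b * u₁⁻¹ = b⁻¹) (hy : ∀ h ∈ U t, h * y * h⁻¹ * y⁻¹ ∈ B)
    (hu₂ : Commute u₂ y) (hfix : ∀ h ∈ U t, ∀ z ∈ B, Commute z y → Commute h z)
    (hne : ∃ b ∈ B, ¬ Commute b y ∧ Commute (y * b * y⁻¹ * b⁻¹) y) : False := by
  obtain ⟨b, hb, hby, hey⟩ := hne
  have M := A.mixed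
  have hconj : ∀ {c z : G}, Commute c t → z ∈ B → c * z * c⁻¹ ∈ B := fun hc hz =>
    (mem_normalizer_iff.1 (hBn (mem_centralizer_of_commute hc)) _).1 hz
  have hcomm : ∀ a ∈ B, ∀ c ∈ B, Commute a c := fun a ha c hc =>
    CfsgLib.PGroups.BSW.commute_of_inverted B hBi ha hc
  have hyU : y ∈ U t := rCore_le r t A.y_mem.1
  have hyt : Commute y t := M.commute_t A.y_mem.1
  set e := y * b * y⁻¹ * b⁻¹ with he
  have heB : e ∈ B := B.mul_mem (hconj hyt hb) (B.inv_mem hb)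
  have hmem : ∀ h : U t, (h : G) * b * (h : G)⁻¹ * b⁻¹ ∈ B ∧
      Commute ((h : G) * b * (h : G)⁻¹ * b⁻¹) y := fun h => by
    have hht := ((σ.mem_U M.ht).1 h.2).1
    refine ⟨B.mul_mem (hconj hht hb) (B.inv_mem hb), (commute_of_conj_eq ?_).symm⟩
    set c := (h : G)⁻¹ * y * (h : G) * y⁻¹ with hc
    have hcB : c ∈ B := by
      have := hy _ (inv_mem h.2)
      rwa [inv_inv] at this
    calc y * ((h : G) * b * (h : G)⁻¹ * b⁻¹) * y⁻¹
        = (h : G) * (c * (y * b * y⁻¹) * c⁻¹) * (h : G)⁻¹ * (y * b * y⁻¹)⁻¹ := by rw [hc]; group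
      _ = (h : G) * (e * b) * (h : G)⁻¹ * (e * b)⁻¹ := by
        rw [show y * b * y⁻¹ = e * b by rw [he]; group,
          conj_eq_of_commute (hcomm c hcB _ (B.mul_mem heB hb))]
      _ = ((h : G) * e * (h : G)⁻¹) * ((h : G) * b * (h : G)⁻¹ * b⁻¹) * e⁻¹ := by group
      _ = (h : G) * b * (h : G)⁻¹ * b⁻¹ := by
        rw [conj_eq_of_commute (hfix h h.2 e heB hey),
          conj_eq_of_commute (hcomm e heB _ (B.mul_mem (hconj hht hb) (B.inv_mem hb)))]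
  let φ : U t →* B :=
    { toFun := fun h => ⟨_, (hmem h).1⟩
      map_one' := Subtype.ext (by simp)
      map_mul' := fun a c => Subtype.ext (by
        show ((a : G) * c) * b * ((a : G) * c)⁻¹ * b⁻¹ =
          (a : G) * b * (a : G)⁻¹ * b⁻¹ * ((c : G) * b * (c : G)⁻¹ * b⁻¹)
        rw [(hcomm _ (hmem a).1 _ (hmem c).1).eq]
        calc ((a : G) * c) * b * ((a : G) * c)⁻¹ * b⁻¹
            = (a : G) * ((c : G) * b * (c : G)⁻¹ * b⁻¹) * (a : G)⁻¹ * ((a : G) * b * (a : G)⁻¹ * b⁻¹) := by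
              group
          _ = _ := by rw [conj_eq_of_commute (hfix a a.2 _ (hmem c).1 (hmem c).2)]) }
  have hfixed : ∀ s : G, (∀ z ∈ B, s * z * s⁻¹ = z⁻¹) → Fixed t s φ := fun s hs p q hpq => by
    refine Subtype.ext ?_
    show (q : G) * b * (q : G)⁻¹ * b⁻¹ = (p : G) * b * (p : G)⁻¹ * b⁻¹
    have hpt := ((σ.mem_U M.ht).1 p.2).1
    have hsb : s⁻¹ * b * s = b⁻¹ := by
      have := hs _ (B.inv_mem hb)
      rw [inv_inv] at this
      calc s⁻¹ * b * s = s⁻¹ * (s * b⁻¹ * s⁻¹) * s := by rw [this]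
        _ = b⁻¹ := by group
    calc (q : G) * b * (q : G)⁻¹ * b⁻¹
        = s * ((p : G) * (s⁻¹ * b * s) * (p : G)⁻¹ * (s⁻¹ * b * s)⁻¹) * s⁻¹ := by rw [hpq]; group
      _ = ((p : G) * b⁻¹ * (p : G)⁻¹ * b⁻¹⁻¹)⁻¹ := by
        rw [hsb, hs _ (B.mul_mem (hconj hpt (B.inv_mem hb)) (B.inv_mem (B.inv_mem hb)))]
      _ = b⁻¹ * ((p : G) * b * (p : G)⁻¹) := by group
      _ = (p : G) * b * (p : G)⁻¹ * b⁻¹ := (hcomm _ (B.inv_mem hb) _ (hconj hpt hb)).eq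
  have h2 : ∀ z ∈ B, u₂ * u₁ * u₂⁻¹ * z * (u₂ * u₁ * u₂⁻¹)⁻¹ = z⁻¹ := fun z hz => by
    have hz' : u₂⁻¹ * z * u₂ ∈ B := by
      have := hconj M.frame.commute₂.inv_left hz
      rwa [inv_inv] at this
    calc u₂ * u₁ * u₂⁻¹ * z * (u₂ * u₁ * u₂⁻¹)⁻¹ = u₂ * (u₁ * (u₂⁻¹ * z * u₂) * u₁⁻¹) * u₂⁻¹ := by group
      _ = z⁻¹ := by rw [hBi _ hz']; group
  have key := apply_conj_eq_inv hL M.frame φ (fun p q => Subtype.ext (hcomm _ (φ p).2 _ (φ q).2).eq)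
    (hfixed u₁ hBi) (hfixed _ h2) (x := ⟨y, hyU⟩) (y := ⟨y, hyU⟩) (conj_eq_of_commute hu₂).symm
  have key' : e = e⁻¹ := congrArg Subtype.val key
  have he1 : e = 1 := eq_one_of_inv_self (odd_orderOf_of_mem M.odd_Q (hB heB)) key'.symm
  exact hby (commute_of_conj_eq (by rw [he, mul_inv_eq_one] at he1; exact he1)).symm

end CfsgLib.GW.Dne
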