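import Cfsg.Agent.Lib.GW.Dne.Mixed.Index

/-!
# A mixed prime: the orbits of the line `⟨y⟩` and of `C_Q(y)` under `O(C(t))`
-/

set_option autoImplicit false

namespace CfsgLib.GW.Dne

open Subgroup CfsgLib.GW
open CfsgLib.Signalizer (involution_sq involution_inv involution_ne_one orderOf_eq_two_of orderOf_conj)

universe u

variable {G : Type u} [Group G] [Finite G]

/-- A map constant on the cosets and separating them bounds the index by the size of its range. -/
theorem relIndex_le_of_separating {α : Type*} [DecidableEq α] {K H : Subgroup G} (f : H → α)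
    (s : Finset α) (hs : ∀ h, f h ∈ s)
    (hf : ∀ a b : H, f a = f b ↔ ((a : G)⁻¹ * b) ∈ K) : K.relIndex H ≤ s.card := by
  show (K.subgroupOf H).index ≤ s.card
  rw [index_eq_card, ← Nat.card_eq_finsetCard s]
  refine Nat.card_le_card_of_injective
    (fun c => Quotient.liftOn' c (fun h => (⟨f h, hs h⟩ : s)) fun a b hab => Subtype.ext ((hf a b).2
      (show a⁻¹ * b ∈ K.subgroupOf H from QuotientGroup.leftRel_apply.1 hab))) ?_
  intro c d
  refine Quotient.inductionOn₂' c d fun a b e => ?_
  exact QuotientGroup.eq.2 ((hf a b).1 (congrArg Subtype.val e))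

/-- An element of prime order spans the subgroup spanned by any of its non-trivial powers. -/
theorem zpowers_eq_of_prime {r : ℕ} (hr : r.Prime) {a b : G} (ha : orderOf a = r)
    (hb : b ∈ zpowers a) (hb1 : b ≠ 1) : zpowers b = zpowers a := by
  refine eq_of_le_of_card_ge (zpowers_le.2 hb) ?_
  rw [Nat.card_zpowers, Nat.card_zpowers, ha]
  rcases (Nat.dvd_prime hr).1 (ha ▸ orderOf_dvd_of_mem_zpowers hb) with e | e
  · exact absurd (orderOf_eq_one_iff.1 e) hb1
  · exact e.ge

namespace Axis

variable {σ : Hyp G} {t u₁ u₂ g₁ g₂ : G} {r : ℕ} {y w : G} (A : Axis σ t u₁ u₂ g₁ g₂ r y w)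
include A

/-- An element of order `r` in `⟨w⟩`. -/
theorem exists_x : ∃ x ∈ zpowers w, orderOf x = r := by
  haveI := Fact.mk A.mixed.prime
  obtain ⟨k, hk⟩ := (IsPGroup.iff_orderOf.1 (isPGroup_rCore r t)) ⟨w, A.w_mem⟩
  rw [Subgroup.orderOf_mk] at hk
  rcases k with _ | k
  · exact absurd (orderOf_eq_one_iff.1 hk) A.w_ne
  exact ⟨w ^ r ^ k, pow_mem (mem_zpowers w) _, by
    rw [orderOf_pow_of_dvd (pow_ne_zero _ A.mixed.prime.ne_zero) (hk ▸ pow_dvd_pow r k.le_succ), hk,
      pow_succ, Nat.mul_div_cancel_left _ (pow_pos A.mixed.prime.pos k)]⟩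

theorem r_le_orderOf_w : r ≤ orderOf w := by
  obtain ⟨x, hx, hxo⟩ := A.exists_x
  exact hxo ▸ Nat.le_of_dvd (orderOf_pos w) (orderOf_dvd_of_mem_zpowers hx)

/-- The line `⟨y⟩` has at most `r + 1` images commuting with it; an odd number. -/
theorem relIndex_line_le {H : Subgroup G} (hH : H ≤ U t)
    (hc : ∀ h ∈ H, Commute (h * y * h⁻¹) y) :
    (normalizer (zpowers y : Set G)).relIndex H ≤ r := by
  classical
  have M := A.mixed
  haveI := Fact.mk M.prime
  obtain ⟨x, hx, hxo⟩ := A.exists_x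
  set L : Finset (Subgroup G) :=
    insert (zpowers x) ((Finset.range r).image fun k : ℕ => zpowers (y * x ^ k)) with hL
  have hxy : Commute y x := by
    obtain ⟨l, rfl⟩ := hx
    exact A.commute_yw.zpow_right l
  have hxr : x ^ r = 1 := hxo ▸ pow_orderOf_eq_one x
  have hyr : y ^ r = 1 := A.y_order ▸ pow_orderOf_eq_one y
  have hmem : ∀ h : H, zpowers ((h : G) * y * (h : G)⁻¹) ∈ L := by
    intro h
    set z := (h : G) * y * (h : G)⁻¹ with hz
    have hzQ : z ∈ rCore r t := Mixed.conj_mem_Q ((σ.mem_U M.ht).1 (hH h.2)).1 A.y_mem.1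
    have hzo : orderOf z = r := by rw [hz, orderOf_conj, A.y_order]
    have hzr : z ^ r = 1 := hzo ▸ pow_orderOf_eq_one z
    obtain ⟨c, hc', k, e⟩ := A.exists_mul_of_commute hzQ (hc h h.2)
    rw [e, ((A.w_comm c hc').zpow_right k).mul_pow] at hzr
    have hcr : c ^ r = 1 := A.eq_one_of_fixed_zpow (pow_mem hc' r) (k := -(k * r))
      (by rw [zpow_neg, zpow_mul, zpow_natCast]; exact eq_inv_of_mul_eq_one_left hzr)
    obtain ⟨a, rfl⟩ := mem_zpowers_of_pow_eq_one A.cyclic M.prime A.y_mem A.y_order hc' hcr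
    have hwk : w ^ k ∈ zpowers x :=
      mem_zpowers_of_pow_eq_one inferInstance M.prime hx hxo (zpow_mem (mem_zpowers w) k)
        (by rwa [hcr, one_mul] at hzr)
    obtain ⟨b, hb⟩ := hwk
    have e' : z = y ^ a * x ^ b := by rw [e]; exact congrArg (y ^ a * ·) hb.symm
    by_cases ha : (r : ℤ) ∣ a
    · have hya : y ^ a = 1 := orderOf_dvd_iff_zpow_eq_one.1 (A.y_order ▸ ha)
      rw [hya, one_mul] at e'
      refine Finset.mem_insert.2 (Or.inl (zpowers_eq_of_prime M.prime hxo ⟨b, e'.symm⟩ fun e1 => ?_))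
      rw [e1, orderOf_one] at hzo
      exact M.prime.one_lt.ne hzo
    · have ha' : (a : ZMod r) ≠ 0 := fun e0 => ha ((ZMod.intCast_zmod_eq_zero_iff_dvd a r).1 e0)
      set l : ℕ := ((a : ZMod r)⁻¹).val with hl
      set k : ℕ := ((b * l : ℤ) : ZMod r).val with hk
      have h1 : z ^ l = y * x ^ k := by
        rw [e', ((hxy.zpow_left a).zpow_right b).mul_pow]
        congr 1
        · rw [← zpow_natCast, ← zpow_mul]
          conv_rhs => rw [← zpow_one y]
          rw [zpow_eq_zpow_iff_modEq, A.y_order, ← ZMod.intCast_eq_intCast_iff, Int.cast_mul,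
            Int.cast_natCast, Int.cast_one, hl, ZMod.natCast_zmod_val, mul_inv_cancel₀ ha']
        · rw [← zpow_natCast, ← zpow_mul, ← zpow_natCast x k, zpow_eq_zpow_iff_modEq, hxo,
            ← ZMod.intCast_eq_intCast_iff, Int.cast_natCast, hk, ZMod.natCast_zmod_val]
      have hne : y * x ^ k ≠ 1 := fun e1 => A.y_ne (by
        obtain ⟨m, hm⟩ := hx
        refine A.eq_one_of_fixed_zpow A.y_mem (k := m * (-(k : ℤ))) ?_
        rw [zpow_mul, show w ^ m = x from hm, zpow_neg, zpow_natCast]
        exact eq_inv_of_mul_eq_one_left e1)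
      refine Finset.mem_insert.2 (Or.inr (Finset.mem_image.2 ⟨k, Finset.mem_range.2 (ZMod.val_lt _), ?_⟩))
      exact zpowers_eq_of_prime M.prime hzo ⟨(l : ℤ), by
        show z ^ (l : ℤ) = y * x ^ k; rw [zpow_natCast, h1]⟩ hne
  have hle := relIndex_le_of_separating (K := normalizer (zpowers y : Set G))
    (fun h : H => zpowers ((h : G) * y * (h : G)⁻¹)) L hmem fun a b => by
    have hmap : ∀ c : G, (zpowers y).map (MulAut.conj c).toMonoidHom = zpowers (c * y * c⁻¹) := fun c => by
      rw [MonoidHom.map_zpowers]; rfl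
    constructor
    · intro e
      refine mem_normalizer_of_conj fun z hz => ?_
      have e1 : (zpowers y).map (MulAut.conj (b : G)).toMonoidHom =
          (zpowers y).map (MulAut.conj (a : G)).toMonoidHom := by rw [hmap, hmap]; exact e.symm
      have h0 : (b : G) * z * (b : G)⁻¹ ∈ (zpowers y).map (MulAut.conj (b : G)).toMonoidHom :=
        ⟨z, hz, rfl⟩
      rw [e1] at h0
      obtain ⟨z', hz', e2⟩ := h0
      refine (congrArg (· ∈ _) ?_).mpr hz'
      calc (a : G)⁻¹ * b * z * ((a : G)⁻¹ * b)⁻¹ = (a : G)⁻¹ * ((b : G) * z * (b : G)⁻¹) * a := by group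
        _ = (a : G)⁻¹ * ((a : G) * z' * (a : G)⁻¹) * a := by rw [← e2]; rfl
        _ = z' := by group
    · intro hm
      have h1 := (mem_normalizer_iff.1 hm y).1 (mem_zpowers y)
      set y' := (a : G)⁻¹ * b * y * ((a : G)⁻¹ * b)⁻¹ with hy'
      have h2 : zpowers y' = zpowers y := zpowers_eq_of_prime M.prime A.y_order h1 fun e1 =>
        A.y_ne (conj_eq_one_iff.1 e1)
      show zpowers ((a : G) * y * (a : G)⁻¹) = zpowers ((b : G) * y * (b : G)⁻¹)
      rw [show (b : G) * y * (b : G)⁻¹ = (a : G) * y' * (a : G)⁻¹ by rw [hy']; group, ← hmap]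
      show _ = zpowers ((MulAut.conj (a : G)).toMonoidHom y')
      rw [← MonoidHom.map_zpowers, h2]
  have hcard : L.card ≤ r + 1 := (Finset.card_insert_le _ _).trans (Nat.add_le_add_right
    (Finset.card_image_le.trans (Finset.card_range r).le) 1)
  have hodd : Odd ((normalizer (zpowers y : Set G)).relIndex H) :=
    ((σ.odd_U M.ht).of_dvd_nat (card_dvd_of_le hH)).of_dvd_nat (relIndex_dvd_card _ _)
  have hro : Odd r := M.prime.odd_of_ne_two M.ne_two
  have := hle.trans hcard
  obtain ⟨p, hp⟩ := hodd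
  obtain ⟨q, hq⟩ := hro
  omega

/-- `C_Q(y)` has at most `r` conjugates when it has index `r` and meets another in `⟨w⟩`. -/
theorem relIndex_axis_le (hQ : Nat.card (rCore r t) = r * Nat.card (axisQ r t y))
    (hAy : Nat.card (axisQ r t y) = r * orderOf w)
    (hwc : ∀ q ∈ rCore r t, Commute q w)
    (hwn : ∀ h ∈ U t, h * w * h⁻¹ ∈ zpowers w) :
    (normalizer (axisQ r t y : Set G)).relIndex (U t) ≤ r := by
  classical
  have M := A.mixed
  haveI := Fact.mk M.prime
  set Ay := axisQ r t y with hAyd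
  have hlt : Ay < rCore r t := by
    refine lt_of_le_of_ne inf_le_left fun e => ?_
    rw [← e] at hQ
    exact absurd (Nat.le_of_dvd Nat.card_pos ⟨1, by rw [mul_one]⟩) (by
      have := M.prime.two_le
      have h0 : 0 < Nat.card Ay := Nat.card_pos
      nlinarith)
  obtain ⟨v, hv, hvA⟩ := SetLike.exists_of_lt hlt
  set L : Finset (Subgroup G) :=
    insert Ay ((Finset.range r).image fun k : ℕ => axisQ r t (y ^ k * v)) with hL
  have hmap : ∀ c : G, Commute c t → Ay.map (MulAut.conj c).toMonoidHom ≤ rCore r t := fun c hc => by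
    rintro _ ⟨a, ha, rfl⟩
    exact Mixed.conj_mem_Q hc ha.1
  have hmem : ∀ h : U t, Ay.map (MulAut.conj (h : G)).toMonoidHom ∈ L := by
    intro h
    set A'' := Ay.map (MulAut.conj (h : G)).toMonoidHom with hA''
    by_cases e : Ay = A''
    · exact Finset.mem_insert.2 (Or.inl e.symm)
    obtain ⟨hD, hsup⟩ := inf_of_card (A := Ay) (isPGroup_rCore r t) inf_le_left
      (hmap h ((σ.mem_U M.ht).1 h.2).1) (card_map_of_injective (MulAut.conj (h : G)).injective) hQ e
    have hwA'' : w ∈ A'' := by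
      obtain ⟨k, hk⟩ := hwn _ (inv_mem h.2)
      refine ⟨w ^ k, zpow_mem A.w_mem_axisQ k, ?_⟩
      show (h : G) * w ^ k * (h : G)⁻¹ = w
      rw [show w ^ k = (h : G)⁻¹ * w * (h : G)⁻¹⁻¹ from hk]; group
    have hDw : Ay ⊓ A'' = zpowers w := by
      refine (eq_of_le_of_card_ge (zpowers_le.2 (show w ∈ Ay ⊓ A'' from ⟨A.w_mem_axisQ, hwA''⟩)) ?_).symm
      rw [Nat.card_zpowers]
      rw [hAy] at hD
      exact (Nat.eq_of_mul_eq_mul_left M.prime.pos hD).ge
    -- `v` is an element of `C_Q(y)` times an element of `A''`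
    have hAyN : Ay ≤ normalizer (A'' : Set G) := by
      intro a ha
      haveI : Group.IsNilpotent (rCore r t) := (isPGroup_rCore r t).isNilpotent
      have hlt' : A'' < rCore r t := by
        refine lt_of_le_of_ne (hmap h ((σ.mem_U M.ht).1 h.2).1) fun e' => hlt.ne ?_
        refine eq_of_le_of_card_ge inf_le_left ?_
        rw [← e', hA'', card_map_of_injective (MulAut.conj (h : G)).injective]
      have hlt'' : A''.subgroupOf (rCore r t) < ⊤ :=
        lt_top_iff_ne_top.2 fun e' => hlt'.not_ge (subgroupOf_eq_top.1 e')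
      obtain ⟨q, hqN, hqA⟩ := SetLike.exists_of_lt (Group.normalizerCondition_of_isNilpotent _ hlt'')
      have hqN' : (q : G) ∈ normalizer (A'' : Set G) := mem_normalizer_of_conj fun p hp =>
        (mem_normalizer_iff.1 hqN ⟨p, hlt'.le hp⟩).1 hp
      set N := rCore r t ⊓ normalizer (A'' : Set G)
      have hNQ : rCore r t ≤ N := by
        have hA''N : A'' ≤ N := le_inf hlt'.le le_normalizer
        have h1 := card_mul_relIndex_of_le hA''N
        have h2 : A''.relIndex N ≠ 1 := fun e' => hqA (relIndex_eq_one.1 e' ⟨q.2, hqN'⟩)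
        have h3 := relIndex_mul_relIndex A'' N (rCore r t) hA''N inf_le_left
        have h4 : A''.relIndex (rCore r t) = r := by
          have h5 := card_mul_relIndex_of_le hlt'.le
          rw [hQ, mul_comm r, hA'', card_map_of_injective (MulAut.conj (h : G)).injective] at h5
          exact Nat.eq_of_mul_eq_mul_left Nat.card_pos h5
        rw [h4] at h3
        rcases (Nat.dvd_prime M.prime).1 (Dvd.intro _ h3) with e' | e'
        · exact absurd e' h2
        · rw [e'] at h3
          exact relIndex_eq_one.1 (Nat.eq_of_mul_eq_mul_left M.prime.pos (h3.trans (mul_one r).symm))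
      exact (hNQ ha.1).2
    obtain ⟨a, ha, a'', ha'', ev⟩ := (CfsgLib.Core.mem_sup_iff_mul hAyN).1 (hsup hv)
    obtain ⟨c, hc, i, ea⟩ := A.exists_mul_of_commute ha.1 (commute_of_mem_centralizer ha.2)
    have hcy : c ∈ zpowers y := by
      have hF : fixedQ r t u₁ ⊓ zpowers w = ⊥ := eq_bot_iff.2 fun d hd => by
        obtain ⟨m, hm⟩ := hd.2
        exact mem_bot.2 (A.eq_one_of_fixed_zpow hd.1 hm.symm)
      have h1 := card_mul_card_le A.fixedQ_le_axisQ (zpowers_le.2 A.w_mem_axisQ) hF
      rw [Nat.card_zpowers, ← hAyd, hAy] at h1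
      have h2 : zpowers y = fixedQ r t u₁ := eq_of_le_of_card_ge (zpowers_le.2 A.y_mem) (by
        rw [Nat.card_zpowers, A.y_order]
        exact Nat.le_of_mul_le_mul_right h1 (orderOf_pos w))
      exact h2 ▸ hc
    obtain ⟨j, rfl⟩ := hcy
    set k : ℕ := ((-j : ℤ) : ZMod r).val with hk
    have hyk : y ^ k = y ^ (-j) := by
      rw [← zpow_natCast, zpow_eq_zpow_iff_modEq, A.y_order, ← ZMod.intCast_eq_intCast_iff, Int.cast_natCast,
        hk, ZMod.natCast_zmod_val]
    have he : y ^ k * v ∈ A'' := by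
      have e1 : y ^ k * v = w ^ i * a'' := by
        rw [hyk, show v = a * a'' from ev, ea, zpow_neg, ← mul_assoc, ← mul_assoc]
        show (y ^ j)⁻¹ * y ^ j * w ^ i * a'' = w ^ i * a''
        rw [inv_mul_cancel, one_mul]
      rw [e1]
      exact A''.mul_mem (A''.zpow_mem hwA'' i) ha''
    have hAle : A'' ≤ axisQ r t (y ^ k * v) := fun p hp => by
      refine ⟨hmap h ((σ.mem_U M.ht).1 h.2).1 hp, mem_centralizer_of_commute ?_⟩
      obtain ⟨p', hp', ep⟩ := hp
      obtain ⟨e', he', ee⟩ := he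
      rw [← ep, ← ee]
      exact (A.axisQ_comm hp' he').map (MulAut.conj (h : G)).toMonoidHom
    refine Finset.mem_insert.2 (Or.inr (Finset.mem_image.2 ⟨k, Finset.mem_range.2 (ZMod.val_lt _), ?_⟩))
    refine (eq_of_le_of_card_ge hAle ?_).symm
    have hQe : axisQ r t (y ^ k * v) ≤ rCore r t := inf_le_left
    have h3 := relIndex_mul_relIndex A'' (axisQ r t (y ^ k * v)) (rCore r t) hAle hQe
    have h4 : A''.relIndex (rCore r t) = r := by
      have h5 := card_mul_relIndex_of_le (hmap h ((σ.mem_U M.ht).1 h.2).1)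
      rw [hQ, mul_comm r, card_map_of_injective (MulAut.conj (h : G)).injective] at h5
      exact Nat.eq_of_mul_eq_mul_left Nat.card_pos h5
    rw [h4] at h3
    rcases (Nat.dvd_prime M.prime).1 (Dvd.intro _ h3) with e' | e'
    · have h6 := card_mul_relIndex_of_le hAle
      rw [e', mul_one] at h6
      exact h6.ge
    · -- otherwise `y ^ k * v` is central, hence in `C_Q(y)`
      exfalso
      rw [e'] at h3
      have h7 : rCore r t ≤ axisQ r t (y ^ k * v) :=
        relIndex_eq_one.1 (Nat.eq_of_mul_eq_mul_left M.prime.pos (h3.trans (mul_one r).symm))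
      have h8 : Commute y (y ^ k * v) := commute_of_mem_centralizer (h7 A.y_mem.1).2
      have h9 : Commute v y := by
        have := ((Commute.refl y).pow_left k).inv_left.mul_left h8.symm
        rwa [inv_mul_cancel_left] at this
      exact hvA ⟨hv, mem_centralizer_of_commute h9⟩
  have hle := relIndex_le_of_separating (K := normalizer (Ay : Set G))
    (fun h : U t => Ay.map (MulAut.conj (h : G)).toMonoidHom) L hmem fun a b => by
    constructor
    · intro e
      refine mem_normalizer_of_conj fun z hz => ?_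
      have h0 : (b : G) * z * (b : G)⁻¹ ∈ Ay.map (MulAut.conj (b : G)).toMonoidHom := ⟨z, hz, rfl⟩
      rw [← e] at h0
      obtain ⟨z', hz', e2⟩ := h0
      refine (congrArg (· ∈ _) ?_).mpr hz'
      calc (a : G)⁻¹ * b * z * ((a : G)⁻¹ * b)⁻¹ = (a : G)⁻¹ * ((b : G) * z * (b : G)⁻¹) * a := by group
        _ = (a : G)⁻¹ * ((a : G) * z' * (a : G)⁻¹) * a := by rw [← e2]; rfl
        _ = z' := by group
    · intro hm
      have h1 : Ay.map (MulAut.conj ((a : G)⁻¹ * b)).toMonoidHom = Ay :=
        CfsgLib.Transfer.map_conj_eq_self_iff.2 hm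
      show Ay.map (MulAut.conj (a : G)).toMonoidHom = Ay.map (MulAut.conj (b : G)).toMonoidHom
      conv_lhs => rw [← h1]
      rw [map_map]
      congr 1
      refine MonoidHom.ext fun z => ?_
      show (a : G) * ((a : G)⁻¹ * b * z * ((a : G)⁻¹ * b)⁻¹) * (a : G)⁻¹ = (b : G) * z * (b : G)⁻¹
      group
  have hcard : L.card ≤ r + 1 := (Finset.card_insert_le _ _).trans (Nat.add_le_add_right
    (Finset.card_image_le.trans (Finset.card_range r).le) 1)
  have hodd : Odd ((normalizer (Ay : Set G)).relIndex (U t)) :=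
    (σ.odd_U M.ht).of_dvd_nat (relIndex_dvd_card _ _)
  have hro : Odd r := M.prime.odd_of_ne_two M.ne_two
  have := hle.trans hcard
  obtain ⟨p, hp⟩ := hodd
  obtain ⟨q, hq⟩ := hro
  omega

end Axis

end CfsgLib.GW.Dne
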