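import Cfsg.Agent.Lib.GW.Dne.Mixed.Dichotomy
import Cfsg.Agent.Lib.GW.Dne.Mixed.Orbit
import Cfsg.Agent.Lib.GW.Dne.Line

/-!
# A mixed prime: the data of the counting lemma

`N(⟨y⟩)` contains the Sylow subgroup and fuses both classes of four-groups.
-/

set_option autoImplicit false

namespace CfsgLib.GW.Dne

open Subgroup CfsgLib.GW
open CfsgLib.Signalizer (involution_sq involution_inv involution_ne_one orderOf_eq_two_of orderOf_conj)

universe u

variable {G : Type u} [Group G] [Finite G]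

/-- An element of the core with `C(t)`: the side of the second reflection. -/
def Axis.Side (σ : Hyp G) (t u₁ u₂ g₂ : G) (r : ℕ) (y : G) : Prop :=
  ((∀ q ∈ rCore r t, u₂ * q * u₂⁻¹ = u₁ * q * u₁⁻¹) ∧ Commute g₂ y) ∨
    (2 ≤ σ.n ∧ ∀ q ∈ rCore r t, Commute q u₂)

namespace Axis

variable {σ : Hyp G} {t u₁ u₂ g₁ g₂ : G} {r : ℕ} {y w : G} (A : Axis σ t u₁ u₂ g₁ g₂ r y w)
include A

omit A [Finite G] in
theorem mem_normalizer_line_of_commute {s : G} (hs : Commute s y) :
    s ∈ normalizer (zpowers y : Set G) := by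
  refine mem_normalizer_iff.2 fun z => ⟨?_, ?_⟩
  · rintro ⟨k, rfl⟩
    exact ⟨k, (conj_eq_of_commute (hs.zpow_right k)).symm⟩
  · rintro ⟨k, hk⟩
    refine ⟨k, ?_⟩
    exact mul_left_cancel (mul_right_cancel ((conj_eq_of_commute (hs.zpow_right k)).trans hk))

omit A [Finite G] in
theorem side_commute (hs : Side σ t u₁ u₂ g₂ r y) (hy : y ∈ fixedQ r t u₁) : Commute u₂ y := by
  rcases hs with ⟨h, -⟩ | ⟨-, h⟩
  · refine commute_of_conj_eq ?_
    rw [h y hy.1, conj_eq_of_commute (Mixed.mem_fixedQ.1 hy).2.symm]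
  · exact (h y hy.1).symm

/-- The frame can be chosen with both rotations in `N(⟨y⟩)`. -/
theorem exists_rot_line (C : Components G) :
    ∃ g : G, Axis σ t u₁ u₂ g₁ g r y w ∧ g ∈ normalizer (zpowers y : Set G) ∧
      Side σ t u₁ u₂ g r y := by
  have M := A.mixed
  have h := M.frame
  haveI := Fact.mk M.prime
  have hnew : ∀ g : G, Rot t u₂ g → Axis σ t u₁ u₂ g₁ g r y w := fun g hg =>
    { A with mixed := ⟨⟨h.rot₁, hg, h.ord, h.pow⟩, M.prime, M.ne_two, M.cfixed, M.fixed_ne, M.moved⟩ }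
  rcases A.dichotomy C with hA | ⟨hn, h7, hB⟩
  · have hfix : ∀ q ∈ fixedQ r t u₁, Commute q u₂ := fun q hq => (commute_of_conj_eq (by
      rw [hA q hq.1, conj_eq_of_commute (Mixed.mem_fixedQ.1 hq).2.symm])).symm
    have M₂ : Mixed σ t u₂ u₁ g₂ g₁ r := ⟨h.symm, M.prime, M.ne_two, M.cfixed,
      fun e => A.y_ne (mem_bot.1 (e ▸ (Mixed.mem_fixedQ.2 ⟨A.y_mem.1, hfix y A.y_mem⟩ :
        y ∈ fixedQ r t u₂))),
      w, A.w_mem, fun hc => A.w_ne (eq_one_of_fixed_inverted (odd_orderOf_of_mem M.odd_Q A.w_mem) hc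
        (by rw [hA w A.w_mem, A.w_inv]))⟩
    obtain ⟨g, hg, hgc⟩ := M₂.rot_comm C (Mixed.isPGroup_fixedQ (u₁ := u₁))
      (fun q hq => ⟨rCore_le r t hq.1, mem_centralizer_of_commute (hfix q hq)⟩)
    exact ⟨g, hnew g hg, mem_normalizer_line_of_commute (hgc y A.y_mem), Or.inl ⟨hA, hgc y A.y_mem⟩⟩
  · have hS : closure ({u₁, u₂} : Set G) ≤ normalizer (zpowers y : Set G) := by
      rw [closure_le]
      intro s hs
      rcases hs with rfl | rfl
      · exact A.fused_line.mem_u
      · exact mem_normalizer_line_of_commute (hB y A.y_mem.1).symm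
    obtain ⟨k, hk, hkt⟩ := seven_isConj h7 A.fused_line.mem_t
      (mem_normalizer_line_of_commute (hB y A.y_mem.1).symm) M.ht M.hu₂
    obtain ⟨g, hgX, hg⟩ := h.exists_rot_mem hn hS hk hkt
    exact ⟨g, hnew g hg, hgX, Or.inr ⟨hn, hB⟩⟩

variable (hg₂ : g₂ ∈ normalizer (zpowers y : Set G)) (hs : Side σ t u₁ u₂ g₂ r y)
include hg₂ hs

omit hg₂ in
theorem closure_le_line : closure ({u₁, u₂} : Set G) ≤ normalizer (zpowers y : Set G) := by
  rw [closure_le]
  intro s hs'
  rcases hs' with rfl | rfl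
  · exact A.fused_line.mem_u
  · exact mem_normalizer_line_of_commute (side_commute hs A.y_mem)

/-- The involutions of `N(⟨y⟩)` centralise `y`. -/
theorem commute_involution {j : G} (hj : j ∈ normalizer (zpowers y : Set G)) (hjo : orderOf j = 2) :
    Commute j y := by
  obtain ⟨m, hm, rfl⟩ := A.mixed.frame.conj_t_of_sylow_mem (A.closure_le_line hs) A.fused_line.mem_g
    hg₂ hj hjo
  obtain ⟨k, hk⟩ := (mem_normalizer_iff''.1 hm y).1 (mem_zpowers y)
  have h1 : Commute t (m⁻¹ * y * m) := by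
    rw [← show y ^ k = m⁻¹ * y * m from hk]
    exact (A.mixed.commute_t A.y_mem.1).symm.zpow_right k
  have := h1.map (MulAut.conj m).toMonoidHom
  simpa [mul_assoc] using this

theorem not_solvable_line (C : Components G) :
    ¬ Group.IsSolvable (normalizer (zpowers y : Set G)) :=
  A.fused_line.not_solvable_of_inverted C.solvableLocal A.mixed.cfixed A.mixed.prime A.mixed.ne_two
    (rCore_le r t A.w_mem) A.w_mem_line A.w_ne (isRElt_of_mem (isPGroup_rCore r t) A.w_mem) A.w_inv

theorem zpow_w_core {k : ℤ} (hk : w ^ k ∈ core (normalizer (zpowers y : Set G))) : w ^ k = 1 :=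
  A.fused_line.eq_one_of_inverted_core A.mixed.cfixed A.mixed.prime A.mixed.ne_two hk
    (isRElt_of_mem (isPGroup_rCore r t) (zpow_mem A.w_mem k)) (inverted_zpow A.w_inv k)

/-- The counting lemma applies. -/
theorem false_of_bounds (C : Components G) (hN : LineCount G)
    (hidx : (normalizer (zpowers y : Set G)).relIndex (U t) ≤ orderOf w) {x : G} (hx : x ∈ zpowers w)
    (hx1 : x ≠ 1)
    (hpair : ∀ h ∈ U t, h ∉ normalizer (zpowers y : Set G) → ∀ j : G, Commute j y →
      Commute j (h * y * h⁻¹) → Commute j x) : False := by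
  classical
  have M := A.mixed
  have h := M.frame
  have hF := A.fused_line
  obtain ⟨k, rfl⟩ := hx
  refine hN σ t u₁ u₂ g₁ g₂ (normalizer (zpowers y : Set G)) w
    ⟨h, hF.ne_top, hF.mem_t, hF.mem_u,
      A.closure_le_line hs (subset_closure (by simp)), hF.mem_g, hg₂, A.not_solvable_line hg₂ hs C,
      ⟨rCore_le r t A.w_mem, A.w_mem_line⟩, A.w_inv, fun k hk => A.zpow_w_core hg₂ hs hk, ?_, ?_, hidx,
      k, hx1, fun c hc hcM j hj hjo hj' => hpair c hc hcM j (A.commute_involution hg₂ hs hj hjo) ?_⟩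
  · rcases hs with ⟨hA, -⟩ | ⟨-, hB⟩
    · exact Or.inl (by rw [hA w A.w_mem, A.w_inv])
    · exact Or.inr (hB w A.w_mem)
  · intro e
    have hUM : U t ≤ normalizer (zpowers y : Set G) := relIndex_eq_one.1 e
    refine h.not_both_fused (fun e' => M.fixed_ne (le_bot_iff.1 (e' ▸ M.fixedQ_le_D))) hF.ne_top ?_
      hF.mem_g hg₂
    intro c hc
    obtain ⟨a, ha, s, hs', rfl⟩ := h.exists_mul (commute_of_mem_centralizer hc)
    exact mul_mem (hUM ha) (A.closure_le_line hs hs')
  · have h1 := A.commute_involution hg₂ hs hj' (by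
      have := orderOf_conj c⁻¹ j
      rw [inv_inv] at this
      rw [this, hjo])
    have := h1.map (MulAut.conj c).toMonoidHom
    simpa [mul_assoc] using this

/-- In the second side the prime is three. -/
theorem r_eq_three (C : Components G) (hB : ∀ q ∈ rCore r t, Commute q u₂) : r = 3 := by
  classical
  have M := A.mixed
  have h := M.frame
  have hF := A.fused_line
  set X := normalizer (zpowers y : Set G) with hX
  have hu₂X : u₂ ∈ X := A.closure_le_line hs (subset_closure (by simp))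
  rcases C.countData σ X t u₁ u₂ g₁ g₂ h hF.ne_top hF.mem_t hF.mem_u hu₂X hF.mem_g hg₂
    (A.not_solvable_line hg₂ hs C) with ⟨q, ε, -, -, -, -, -, hcl⟩ | ⟨-, -, -, -, hrel, -⟩
  · exfalso
    have hcore := hcl w ⟨rCore_le r t A.w_mem, A.w_mem_line⟩ A.w_inv (fun hc => A.w_ne (by
      have := A.zpow_w_core hg₂ hs (k := 1) (by rwa [zpow_one])
      rwa [zpow_one] at this)) u₂ hu₂X M.hu₂ (hB w A.w_mem).symm
    have h1 : orderOf (u₂ * t) = 2 := by
      refine orderOf_eq_two_of (fun e => h.rot₂.ne ?_) ?_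
      · rw [eq_inv_of_mul_eq_one_left e, involution_inv M.ht]
      · calc u₂ * t * (u₂ * t) = u₂ * (t * u₂) * t := by group
          _ = u₂ * u₂ * (t * t) := by rw [h.commute₂.symm.eq]; group
          _ = 1 := by rw [involution_sq M.hu₂, involution_sq M.ht, one_mul]
    have h2 := odd_orderOf_of_mem (odd_core X) hcore
    rw [h1] at h2
    exact absurd h2 (by decide)
  · set O := core X ⊓ centralizer ({t} : Set G) with hO
    have hOU : O ≤ U t ⊓ X := fun a ha =>
      ⟨(σ.mem_U M.ht).2 ⟨commute_of_mem_centralizer ha.2, odd_orderOf_of_mem (odd_core X) ha.1⟩,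
        core_le X ha.1⟩
    have h1 := card_mul_card_le hOU
      (zpowers_le.2 (show w ∈ U t ⊓ X from ⟨rCore_le r t A.w_mem, A.w_mem_line⟩))
      (eq_bot_iff.2 fun a ha => by
        obtain ⟨k, rfl⟩ := ha.2
        exact mem_bot.2 (A.zpow_w_core hg₂ hs ha.1.1))
    rw [Nat.card_zpowers, ← card_mul_relIndex_of_le hOU] at h1
    have h3 : orderOf w ≤ 3 :=
      (Nat.le_of_mul_le_mul_left h1 Nat.card_pos).trans (Nat.le_of_dvd (by norm_num) hrel)
    have h4 := (A.r_le_orderOf_w).trans h3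
    have h5 := M.prime.two_le
    have h6 := M.ne_two
    omega

end Axis

end CfsgLib.GW.Dne
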